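import Groth.Agent.RedSub.H507.WtRoot

/-!
# Root matrices for all roots

`exists_rootMat`: from `ChevMat P b` to root matrices with divided powers for all roots.
-/

set_option autoImplicit false

open Groth.Agent.RedSub.H630.ChevDefs (ChevMat uMat)

namespace Groth.Agent.RedSub.H507.RootMat

open Grade LieClos Supp Cone RootLie DP Lift WtRoot

variable {idx M : Type} [AddCommGroup M] {P : RootPairing idx ℤ M (Module.Dual ℤ M)} {b : P.Base}
  (C : ChevMat P b)

/-- `X` (with its divided powers) spans the weight space `β` of `L` and is primitive. -/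
structure IsRootVec (β : M) (X : DP.DP C.J) (A : Matrix C.J C.J ℤ) : Prop where
  wt : IsWt C.wt β (X.X 1)
  mem : X.XB ℚ 1 ∈ L C
  one : ∀ Z ∈ L C, IsWt C.wt β Z → ∃ q : ℚ, Z = q • X.XB ℚ 1
  tr : (A * X.X 1).trace = 1

variable {C}

lemma trace_conj {J : Type} [Fintype J] [DecidableEq J] {R : Type*} [CommRing R]
    (g : (Matrix J J R)ˣ) (A X : Matrix J J R) :
    ((g.val * A * (g⁻¹).val) * (g.val * X * (g⁻¹).val)).trace = (A * X).trace := by
  have h1 : (g.val * A * (g⁻¹).val) * (g.val * X * (g⁻¹).val) = g.val * ((A * X) * (g⁻¹).val) := by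
    calc (g.val * A * (g⁻¹).val) * (g.val * X * (g⁻¹).val)
        = g.val * A * ((g⁻¹).val * g.val) * X * (g⁻¹).val := by noncomm_ring
      _ = g.val * ((A * X) * (g⁻¹).val) := by rw [Units.inv_mul]; noncomm_ring
  rw [h1, Matrix.trace_mul_comm, mul_assoc, Units.inv_mul, mul_one]

lemma XB_conj {J : Type} [Fintype J] [DecidableEq J] (X : DP.DP J) (g : (Matrix J J ℤ)ˣ) (n : ℕ) :
    (X.conj g).XB ℚ n = (DP.mapZ ℚ g).val * X.XB ℚ n * ((DP.mapZ ℚ g)⁻¹ : (Matrix J J ℚ)ˣ).val := by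
  rw [DP.XB, DP.conj_X, Matrix.map_mul, Matrix.map_mul]
  rfl

lemma IsRootVec.conj {β : M} {X : DP.DP C.J} {A : Matrix C.J C.J ℤ} (h : IsRootVec C β X A)
    {w : M ≃ₗ[ℤ] M} {g : (Matrix C.J C.J ℤ)ˣ} (hg : IsLift C w g) :
    IsRootVec C (w β) (X.conj g) (g.val * A * (g⁻¹ : (Matrix C.J C.J ℤ)ˣ).val) where
  wt := hg.conj h.wt
  mem := by
    rw [XB_conj]
    exact hg.mem _ h.mem
  one Z hZ hwt := by
    have h1 := hg.conjQ_inv hwt
    rw [LinearEquiv.symm_apply_apply] at h1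
    obtain ⟨q, hq⟩ := h.one _ (hg.mem_inv Z hZ) h1
    refine ⟨q, ?_⟩
    rw [XB_conj]
    have h2 : (DP.mapZ ℚ g).val * (((DP.mapZ ℚ g)⁻¹ : (Matrix C.J C.J ℚ)ˣ).val * Z *
        (DP.mapZ ℚ g).val) * ((DP.mapZ ℚ g)⁻¹ : (Matrix C.J C.J ℚ)ˣ).val = Z := by
      rw [mul_assoc, mul_assoc, mul_assoc, Units.mul_inv, mul_one, ← mul_assoc, Units.mul_inv,
        one_mul]
    rw [← h2, hq, mul_smul_comm, smul_mul_assoc]
  tr := by
    rw [show (X.conj g).X 1 = g.val * X.X 1 * (g⁻¹ : (Matrix C.J C.J ℤ)ˣ).val from rfl,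
      trace_conj, h.tr]

lemma exists_trace_eq_one {J : Type} [Fintype J] [DecidableEq J] {X : Matrix J J ℤ} {j k : J}
    (h : IsUnit (X j k)) : ∃ A : Matrix J J ℤ, (A * X).trace = 1 := by
  obtain ⟨u, hu⟩ := h
  refine ⟨Matrix.single k j ((u⁻¹ : ℤˣ) : ℤ), ?_⟩
  rw [Matrix.trace_single_mul, ← hu]
  simp

section

variable [IsAddTorsionFree M]

variable (C) in
lemma exists_isRootVec_E (i : b.support) : ∃ A, IsRootVec C (P.root i) (dpE C i) A := by
  obtain ⟨j, k, hjk⟩ := C.e_prim i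
  obtain ⟨A, hA⟩ := exists_trace_eq_one hjk
  refine ⟨A, ?_, ?_, ?_, ?_⟩
  · rw [dpE_one]; exact C.e_wt i
  · rw [XB_one_E]; exact e_mem i
  · intro Z hZ hwt
    rw [XB_one_E]
    by_cases h0 : Z = 0
    · exact ⟨0, by rw [h0, zero_smul]⟩
    · rcases wt_simple (c := 1) one_ne_zero hZ (by rwa [one_smul]) h0 with ⟨-, h⟩ | ⟨h, -⟩
      · exact h
      · norm_num at h
  · rw [dpE_one]; exact hA

variable (C) in
lemma exists_isRootVec_F (i : b.support) : ∃ A, IsRootVec C (-P.root i) (dpF C i) A := by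
  obtain ⟨j, k, hjk⟩ := C.f_prim i
  obtain ⟨A, hA⟩ := exists_trace_eq_one hjk
  refine ⟨A, ?_, ?_, ?_, ?_⟩
  · rw [dpF_one]; exact C.f_wt i
  · rw [XB_one_F]; exact f_mem i
  · intro Z hZ hwt
    rw [XB_one_F]
    by_cases h0 : Z = 0
    · exact ⟨0, by rw [h0, zero_smul]⟩
    · rcases wt_simple (c := -1) (by norm_num) hZ (by rwa [neg_smul, one_smul]) h0 with
        ⟨h, -⟩ | ⟨-, h⟩
      · norm_num at h
      · exact h
  · rw [dpF_one]; exact hA

variable (C) in
lemma exists_pair [Finite idx] [P.IsReduced] [Module.Free ℤ M] (a : idx) (ha : b.IsPos a) :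
    ∃ (X Y : DP.DP C.J) (A B : Matrix C.J C.J ℤ), IsRootVec C (P.root a) X A ∧
      IsRootVec C (-P.root a) Y B ∧
      X.X 1 * Y.X 1 - Y.X 1 * X.X 1 = Matrix.diagonal (fun j => P.coroot' a (C.wt j)) ∧
      ∀ i : b.support, (i : idx) = a → X.X 1 = C.e i ∧ Y.X 1 = C.f i := by
  by_cases hs : a ∈ b.support
  · obtain ⟨A, hA⟩ := exists_isRootVec_E C ⟨a, hs⟩
    obtain ⟨B, hB⟩ := exists_isRootVec_F C ⟨a, hs⟩
    refine ⟨_, _, A, B, hA, hB, ?_, ?_⟩
    · rw [dpE_one, dpF_one, C.lie_same]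
    · rintro i rfl
      rw [dpE_one, dpF_one]
      exact ⟨rfl, rfl⟩
  · obtain ⟨i, w, g, hg, hw, hc⟩ := exists_lift (C := C) ha
    obtain ⟨A, hA⟩ := exists_isRootVec_E C i
    obtain ⟨B, hB⟩ := exists_isRootVec_F C i
    have hA' := hA.conj hg
    have hB' := hB.conj hg
    rw [hw] at hA'
    rw [map_neg, hw] at hB'
    refine ⟨_, _, _, _, hA', hB', ?_, ?_⟩
    · rw [show ((dpE C i).conj g).X 1 = g.val * (dpE C i).X 1 * (g⁻¹ : (Matrix C.J C.J ℤ)ˣ).val from rfl,
        show ((dpF C i).conj g).X 1 = g.val * (dpF C i).X 1 * (g⁻¹ : (Matrix C.J C.J ℤ)ˣ).val from rfl,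
        dpE_one, dpF_one]
      have h1 : (g.val * C.e i * (g⁻¹ : (Matrix C.J C.J ℤ)ˣ).val) *
          (g.val * C.f i * (g⁻¹ : (Matrix C.J C.J ℤ)ˣ).val) -
          (g.val * C.f i * (g⁻¹ : (Matrix C.J C.J ℤ)ˣ).val) *
          (g.val * C.e i * (g⁻¹ : (Matrix C.J C.J ℤ)ˣ).val) =
          g.val * (C.e i * C.f i - C.f i * C.e i) * (g⁻¹ : (Matrix C.J C.J ℤ)ˣ).val := by
        have h2 : ∀ x y : Matrix C.J C.J ℤ, (g.val * x * (g⁻¹ : (Matrix C.J C.J ℤ)ˣ).val) *
            (g.val * y * (g⁻¹ : (Matrix C.J C.J ℤ)ˣ).val) =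
            g.val * (x * y) * (g⁻¹ : (Matrix C.J C.J ℤ)ˣ).val := by
          intro x y
          calc _ = g.val * x * ((g⁻¹ : (Matrix C.J C.J ℤ)ˣ).val * g.val) * y *
                (g⁻¹ : (Matrix C.J C.J ℤ)ˣ).val := by noncomm_ring
            _ = _ := by rw [Units.inv_mul]; noncomm_ring
        rw [h2, h2, mul_sub, sub_mul]
      rw [h1, C.lie_same]
      have h3 : g.val * Matrix.diagonal (fun j => P.coroot' i (C.wt j)) =
          Matrix.diagonal (fun j => P.coroot' a (C.wt j)) * g.val := by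
        ext j k
        rw [Matrix.mul_diagonal, Matrix.diagonal_mul]
        by_cases h : g.val j k = 0
        · rw [h]; ring
        · rw [hg.wt j k h, hc, mul_comm]
      rw [h3, mul_assoc, Units.mul_inv, mul_one]
    · rintro i rfl
      exact absurd i.2 hs

lemma root_neg (a : idx) : P.root (P.reflectionPerm a a) = -P.root a := by
  rw [P.root_reflectionPerm, P.reflection_apply_self]

lemma neg_neg_idx (a : idx) :
    P.reflectionPerm (P.reflectionPerm a a) (P.reflectionPerm a a) = a := by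
  apply P.root.injective
  rw [root_neg, root_neg, neg_neg]

lemma coroot'_neg (a : idx) (m : M) : P.coroot' (P.reflectionPerm a a) m = -P.coroot' a m := by
  rw [← P.coroot'_reflection, P.reflection_apply, map_sub, map_smul, P.coroot_root_two,
    smul_eq_mul]
  ring

variable (C) in
theorem exists_all [Finite idx] [P.IsReduced] [Module.Free ℤ M] :
    ∃ (D : idx → DP.DP C.J) (A : idx → Matrix C.J C.J ℤ),
      (∀ a, IsRootVec C (P.root a) (D a) (A a)) ∧
      (∀ a, (D a).X 1 * (D (P.reflectionPerm a a)).X 1 - (D (P.reflectionPerm a a)).X 1 * (D a).X 1 =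
        Matrix.diagonal (fun j => P.coroot' a (C.wt j))) ∧
      (∀ i : b.support, (D i).X 1 = C.e i ∧ (D (P.reflectionPerm i i)).X 1 = C.f i) := by
  classical
  choose X Y A B hX hY hXY hs using fun a : {a // b.IsPos a} => exists_pair C a.1 a.2
  have hneg : ∀ a, ¬ b.IsPos a → b.IsPos (P.reflectionPerm a a) :=
    fun a ha => (RootPairing.Base.IsPos.neg_iff_not b a).2 ha
  have hneg' : ∀ a, b.IsPos a → ¬ b.IsPos (P.reflectionPerm a a) := by
    intro a ha h
    have := (RootPairing.Base.IsPos.neg_iff_not b a).1 h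
    exact this ha
  have hY' : ∀ (a c : idx) (hc : b.IsPos c), c = P.reflectionPerm a a →
      IsRootVec C (P.root a) (Y ⟨c, hc⟩) (B ⟨c, hc⟩) := by
    rintro a c hc rfl
    have := hY ⟨_, hc⟩
    rwa [root_neg, neg_neg] at this
  refine ⟨fun a => if h : b.IsPos a then X ⟨a, h⟩ else Y ⟨P.reflectionPerm a a, hneg a h⟩,
    fun a => if h : b.IsPos a then A ⟨a, h⟩ else B ⟨P.reflectionPerm a a, hneg a h⟩, ?_, ?_, ?_⟩
  · intro a
    by_cases h : b.IsPos a
    · simp only [h, dif_pos]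
      exact hX ⟨a, h⟩
    · simp only [h, dif_neg, not_false_eq_true]
      exact hY' a _ (hneg a h) rfl
  · intro a
    by_cases h : b.IsPos a
    · have h' := hneg' a h
      simp only [h, h', dif_pos, dif_neg, not_false_eq_true]
      have h1 := hXY ⟨a, h⟩
      have h2 : ∀ (c : idx) (hc : b.IsPos c), c = a → (Y ⟨c, hc⟩) = Y ⟨a, h⟩ := by
        rintro c hc rfl; rfl
      rw [h2 _ _ (neg_neg_idx a)]
      exact h1
    · have h' := hneg a h
      simp only [h, h', dif_pos, dif_neg, not_false_eq_true]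
      have h1 := hXY ⟨_, h'⟩
      rw [← neg_sub, h1, Matrix.diagonal_neg]
      congr 1
      funext j
      change -(P.coroot' (P.reflectionPerm a a) (C.wt j)) = _
      rw [coroot'_neg, neg_neg]
  · intro i
    have hi : b.IsPos i := RootPairing.Base.isPos_of_mem_support i.2
    have h' := hneg' i hi
    simp only [hi, h', dif_pos, dif_neg, not_false_eq_true]
    have h2 : ∀ (c : idx) (hc : b.IsPos c), c = i → (Y ⟨c, hc⟩) = Y ⟨i, hi⟩ := by
      rintro c hc rfl; rfl
    rw [h2 _ _ (neg_neg_idx _)]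
    exact hs ⟨i, hi⟩ i rfl

/-- A multiple of an integral matrix by a rational number which is determined by a trace. -/
lemma eq_int_smul {J : Type} [Fintype J] [DecidableEq J] {X Z A : Matrix J J ℤ}
    (hA : (A * X).trace = 1) {q : ℚ}
    (h : Z.map (Int.castRingHom ℚ) = q • X.map (Int.castRingHom ℚ)) :
    Z = (A * Z).trace • X ∧ q = ((A * Z).trace : ℤ) := by
  have h1 : q = ((A * Z).trace : ℤ) := by
    have h2 := congrArg (fun Y => (A.map (Int.castRingHom ℚ) * Y).trace) h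
    simp only [mul_smul_comm, Matrix.trace_smul, ← Matrix.map_mul] at h2
    have h3 : ∀ W : Matrix J J ℤ, (W.map (Int.castRingHom ℚ)).trace = ((W.trace : ℤ) : ℚ) := by
      intro W
      simp [Matrix.trace]
    rw [h3, h3, hA] at h2
    simpa using h2.symm
  refine ⟨?_, h1⟩
  ext j k
  have h2 := congrFun (congrFun h j) k
  rw [h1, Matrix.smul_apply, Matrix.map_apply, Matrix.map_apply, smul_eq_mul] at h2
  simp only [eq_intCast] at h2
  rw [Matrix.smul_apply, smul_eq_mul]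
  exact_mod_cast h2

lemma uMat_eq_exp {J : Type} [Fintype J] [DecidableEq J] {B : Type*} [CommRing B] (D : DP.DP J) {N : ℕ}
    (hN : D.bd ≤ N) (x : B) : uMat D.X N x = D.exp x := by
  rw [DP.exp_eq_sum _ _ hN]
  rfl

variable (C) in
/-- Root matrices for all roots. -/
theorem exists_rootMat [Finite idx] [P.IsReduced] [Module.Free ℤ M] :
    ∃ (N : ℕ) (E : idx → ℕ → Matrix C.J C.J ℤ) (phi : idx → Matrix C.J C.J ℤ →ₗ[ℤ] ℤ),
      (∀ i : b.support, E i 1 = C.e i) ∧
      (∀ i : b.support, E (P.reflectionPerm i i) 1 = C.f i) ∧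
      (∀ a, E a 0 = 1) ∧
      (∀ a m n, E a m * E a n = ((m + n).choose m : ℤ) • E a (m + n)) ∧
      (∀ a n, N ≤ n → E a n = 0) ∧
      (∀ a n, H630.ChevDefs.IsWt C.wt (n • P.root a) (E a n)) ∧
      (∀ a, phi a (E a 1) = 1) ∧
      (∀ a m, m ≠ P.root a → ∀ X, H630.ChevDefs.IsWt C.wt m X → phi a X = 0) ∧
      (∀ a c d, P.root d = P.root a + P.root c →
        ∃ r : ℤ, E a 1 * E c 1 - E c 1 * E a 1 = r • E d 1) ∧
      (∀ a c, P.root a + P.root c ≠ 0 → P.root a + P.root c ∉ Set.range P.root →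
        E a 1 * E c 1 = E c 1 * E a 1) ∧
      (∀ a, E a 1 * E (P.reflectionPerm a a) 1 - E (P.reflectionPerm a a) 1 * E a 1 =
        Matrix.diagonal fun j => P.coroot' a (C.wt j)) ∧
      (∀ i : b.support, ∀ c, ∃ r : ℤˣ, ∀ n,
        (uMat (E i) N (1 : ℤ) * uMat (E (P.reflectionPerm i i)) N (-1) * uMat (E i) N 1) * E c n =
          (r : ℤ) ^ n • (E (P.reflectionPerm i c) n *
            (uMat (E i) N (1 : ℤ) * uMat (E (P.reflectionPerm i i)) N (-1) * uMat (E i) N 1))) ∧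
      (∀ i : b.support, ∀ j k,
        (uMat (E i) N (1 : ℤ) * uMat (E (P.reflectionPerm i i)) N (-1) * uMat (E i) N 1 :
          Matrix C.J C.J ℤ) j k ≠ 0 →
          C.wt j = P.reflection i (C.wt k)) ∧
      (∀ a n, (n.factorial : ℤ) • E a n = E a 1 ^ n) := by
  classical
  have := Fintype.ofFinite idx
  obtain ⟨D, A, hD, hh, hs⟩ := exists_all C
  let N := Finset.univ.sup fun a => (D a).bd
  have hN : ∀ a, (D a).bd ≤ N := fun a => Finset.le_sup (f := fun a => (D a).bd) (Finset.mem_univ a)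
  have hn : ∀ i : b.support, uMat (D i).X N (1 : ℤ) * uMat (D (P.reflectionPerm i i)).X N (-1) *
      uMat (D i).X N 1 = (nI C i).val := by
    intro i
    have h1 : D i = dpE C i := DP.ext_of_X_one (by rw [(hs i).1, dpE_one])
    have h2 : D (P.reflectionPerm i i) = dpF C i := DP.ext_of_X_one (by rw [(hs i).2, dpF_one])
    rw [uMat_eq_exp _ (hN i), uMat_eq_exp _ (hN _), h1, h2]
    rfl
  have hbr : ∀ a c, (((D a).X 1 * (D c).X 1 - (D c).X 1 * (D a).X 1).map (Int.castRingHom ℚ)) ∈ L C := by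
    intro a c
    rw [Matrix.map_sub _ (map_sub (Int.castRingHom ℚ)), Matrix.map_mul, Matrix.map_mul]
    exact br_mem (hD a).mem (hD c).mem
  have hbrw : ∀ a c, IsWt C.wt (P.root a + P.root c)
      ((D a).X 1 * (D c).X 1 - (D c).X 1 * (D a).X 1) := by
    intro a c
    refine ((hD a).wt.mul (hD c).wt).sub ?_
    rw [add_comm]
    exact (hD c).wt.mul (hD a).wt
  refine ⟨N, fun a => (D a).X, fun a => (Matrix.traceLinearMap C.J ℤ ℤ).comp
    ((LinearMap.mulLeft ℤ (A a)).comp (projL ℤ C.wt (P.root a))), fun i => (hs i).1,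
    fun i => (hs i).2, fun a => (D a).X_zero, fun a => (D a).X_mul,
    fun a n hn => (D a).X_eq_zero ((hN a).trans hn), fun a n => (D a).isWt_X (hD a).wt n,
    ?_, ?_, ?_, ?_, hh, ?_, ?_, fun a n => (D a).pow n⟩
  · intro a
    simp only [LinearMap.comp_apply, projL_apply, proj_of_isWt (hD a).wt, LinearMap.mulLeft_apply,
      Matrix.traceLinearMap_apply]
    exact (hD a).tr
  · intro a m hm X hX
    simp only [LinearMap.comp_apply, projL_apply]
    rw [proj_of_isWt_ne (γ := m) hX hm]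
    simp
  · intro a c d hd
    obtain ⟨q, hq⟩ := (hD d).one _ (hbr a c) (by rw [hd]; exact (hbrw a c).map _)
    exact ⟨_, (eq_int_smul (hD d).tr hq).1⟩
  · intro a c h0 hr
    have h1 := eq_zero_of_notMem (hbr a c) ((hbrw a c).map _) h0 hr
    rw [← sub_eq_zero]
    ext j k
    have h2 := congrFun (congrFun h1 j) k
    rw [Matrix.map_apply] at h2
    have h3 : ((((D a).X 1 * (D c).X 1 - (D c).X 1 * (D a).X 1) j k : ℤ) : ℚ) = 0 := h2
    exact_mod_cast h3
  · intro i c
    have hg := isLift_nI (C := C) i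
    set g := nI C i with hgdef
    -- both sides of the conjugation
    have hZ := (hD c).conj hg
    rw [← P.root_reflectionPerm] at hZ
    obtain ⟨q, hq⟩ := (hD (P.reflectionPerm i c)).one _ hZ.mem (hZ.wt.map _)
    obtain ⟨q', hq'⟩ := hZ.one _ (hD (P.reflectionPerm i c)).mem ((hD (P.reflectionPerm i c)).wt.map _)
    have e1 := eq_int_smul (hD (P.reflectionPerm i c)).tr hq
    have e2 := eq_int_smul hZ.tr hq'
    set r := (A (P.reflectionPerm i c) * ((D c).conj g).X 1).trace with hr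
    set r' := (g.val * A c * (g⁻¹ : (Matrix C.J C.J ℤ)ˣ).val * (D (P.reflectionPerm i c)).X 1).trace
      with hr'
    have hrr : r' * r = 1 := by
      have h1 := (hD (P.reflectionPerm i c)).tr
      rw [e2.1, mul_smul_comm, Matrix.trace_smul, smul_eq_mul] at h1
      exact h1
    have hu : IsUnit r := IsUnit.of_mul_eq_one_right _ hrr
    obtain ⟨u, hu⟩ := hu
    refine ⟨u, fun n => ?_⟩
    rw [hn]
    have h1 : ((D c).conj g).X n = (u : ℤ) ^ n • (D (P.reflectionPerm i c)).X n := by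
      apply DP.smul_cancel (c := (n.factorial : ℤ)) (by exact_mod_cast n.factorial_ne_zero)
      rw [DP.pow, smul_comm, DP.pow, e1.1, ← hu, _root_.smul_pow]
    have h2 : ((D c).conj g).X n = g.val * (D c).X n * (g⁻¹ : (Matrix C.J C.J ℤ)ˣ).val := rfl
    rw [← smul_mul_assoc, ← h1, h2, mul_assoc, mul_assoc, Units.inv_mul, mul_one]
  · intro i j k h
    rw [hn] at h
    exact (isLift_nI (C := C) i).wt j k h

end

end Groth.Agent.RedSub.H507.RootMat
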