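import Mathlib.LinearAlgebra.RootSystem.Base
import Mathlib.Data.Matrix.Mul
import Mathlib.Data.Matrix.Diagonal
import Mathlib.Data.Nat.Factorial.Basic

/-!
# Integrable representations over the integers attached to a root datum with a base

`IntRep P b κ` : a free `ℤ`-module with basis `κ` graded by weights in `M`, with operators
`E i, F i` (`i` a simple root) all of whose divided powers are integral, satisfying the
`sl₂`-relations, with weights generating `M` and each `E i` having an entry `±1`.
-/

set_option autoImplicit false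

namespace Groth.Agent.RedSub.H507.Input

variable {ι M N : Type} [AddCommGroup M] [AddCommGroup N]

/-- An integrable representation over `ℤ` attached to a root datum with a base. -/
structure IntRep (P : RootPairing ι ℤ M N) (b : P.Base) (κ : Type) [Fintype κ] [DecidableEq κ] where
  /-- the weights of the basis vectors -/
  wt : κ → M
  /-- the divided powers of the raising operators -/
  E : b.support → ℕ → Matrix κ κ ℤ
  /-- the divided powers of the lowering operators -/
  F : b.support → ℕ → Matrix κ κ ℤ
  E_pow : ∀ i n, (n.factorial : ℤ) • E i n = E i 1 ^ n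
  F_pow : ∀ i n, (n.factorial : ℤ) • F i n = F i 1 ^ n
  E_nil : ∀ i, ∃ n, E i 1 ^ n = 0
  F_nil : ∀ i, ∃ n, F i 1 ^ n = 0
  E_wt : ∀ i k l, E i 1 k l ≠ 0 → wt k = wt l + P.root i
  F_wt : ∀ i k l, F i 1 k l ≠ 0 → wt k = wt l - P.root i
  EF_same : ∀ i, E i 1 * F i 1 - F i 1 * E i 1 =
    Matrix.diagonal (fun k => P.toLinearMap (wt k) (P.coroot i))
  EF_ne : ∀ i j, i ≠ j → E i 1 * F j 1 = F j 1 * E i 1
  E_one : ∀ i, ∃ k l, E i 1 k l = 1 ∨ E i 1 k l = -1
  span_wt : AddSubgroup.closure (Set.range wt) = ⊤

end Groth.Agent.RedSub.H507.Input
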