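import Mathlib.LinearAlgebra.RootSystem.Base
import Mathlib.LinearAlgebra.RootSystem.Finite.Nondegenerate
import Mathlib.LinearAlgebra.Dimension.Free

/-!
# The cone of nonnegative combinations of simple roots
-/

set_option autoImplicit false

namespace Groth.Agent.RedSub.H507.Cone

variable {idx M N : Type*} [AddCommGroup M] [AddCommGroup N] {P : RootPairing idx ℤ M N}

/-- nonnegative combinations of simple roots with a positive coefficient at some place of `S` -/
def cone (b : P.Base) (S : Set b.support) : Set M :=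
  {m | ∃ f : b.support → ℤ, (∀ i, 0 ≤ f i) ∧ (∃ i ∈ S, 0 < f i) ∧ m = ∑ i, f i • P.root i}

variable {b : P.Base} {S : Set b.support}

lemma add_mem_cone {x y : M} (hx : x ∈ cone b S) (hy : y ∈ cone b Set.univ) : x + y ∈ cone b S := by
  obtain ⟨f, hf, ⟨i, hi, hfi⟩, rfl⟩ := hx
  obtain ⟨g, hg, -, rfl⟩ := hy
  refine ⟨fun i => f i + g i, fun i => add_nonneg (hf i) (hg i), ⟨i, hi, ?_⟩, ?_⟩
  · exact add_pos_of_pos_of_nonneg hfi (hg i)
  · simp only [add_smul, Finset.sum_add_distrib]

lemma cone_mono {S' : Set b.support} (h : S ⊆ S') : cone b S ⊆ cone b S' := by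
  rintro _ ⟨f, hf, ⟨i, hi, hfi⟩, rfl⟩
  exact ⟨f, hf, ⟨i, h hi, hfi⟩, rfl⟩

lemma root_mem_cone {i : b.support} (hi : i ∈ S) : P.root i ∈ cone b S := by
  classical
  refine ⟨Pi.single i 1, fun j => ?_, ⟨i, hi, by simp⟩, ?_⟩
  · by_cases h : j = i
    · subst h; simp
    · rw [Pi.single_eq_of_ne h]
  · rw [Finset.sum_eq_single i]
    · simp
    · intro j _ hj
      rw [Pi.single_eq_of_ne hj, zero_smul]
    · simp

lemma linearIndependent (b : P.Base) : LinearIndependent ℤ fun i : b.support => P.root i :=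
  b.linearIndepOn_root

lemma eq_of_sum_eq {f g : b.support → ℤ} (h : ∑ i, f i • P.root i = ∑ i, g i • P.root i) : f = g := by
  have := Fintype.linearIndependent_iffₛ.1 (linearIndependent b) f g h
  exact funext this

lemma smul_root_notMem (c : ℤ) (i : b.support) : c • P.root i ∉ cone b {i}ᶜ := by
  classical
  rintro ⟨f, hf, ⟨j, hj, hfj⟩, h⟩
  have h1 : c • P.root i = ∑ k : b.support, (Pi.single i c : b.support → ℤ) k • P.root k := by
    rw [Finset.sum_eq_single i]
    · simp
    · intro k _ hk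
      rw [Pi.single_eq_of_ne hk, zero_smul]
    · simp
  have h2 : (Pi.single i c : b.support → ℤ) = f := eq_of_sum_eq (by rw [← h1, h])
  have h3 : (Pi.single i c : b.support → ℤ) j = 0 := Pi.single_eq_of_ne hj _
  rw [h2] at h3
  omega

lemma zero_notMem : (0 : M) ∉ cone b S := by
  rintro ⟨f, hf, ⟨j, hj, hfj⟩, h⟩
  have h2 : (0 : b.support → ℤ) = f := eq_of_sum_eq (by rw [← h]; simp)
  rw [← h2] at hfj
  simp at hfj

lemma neg_notMem_of_mem {x : M} (hx : x ∈ cone b S) {S' : Set b.support} : -x ∉ cone b S' := by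
  intro h
  have h1 := add_mem_cone hx (cone_mono (Set.subset_univ _) h)
  rw [add_neg_cancel] at h1
  exact zero_notMem h1

/-- A nonzero element of the cone has a positive coefficient at a simple root with which it has
positive pairing. -/
lemma exists_pos [Finite idx] [Module.IsTorsionFree ℤ M] {f : b.support → ℤ} (hf : ∀ i, 0 ≤ f i)
    (hne : ∃ i, 0 < f i) : ∃ j : b.support, 0 < f j ∧ 0 < P.coroot' j (∑ i, f i • P.root i) := by
  have := Fintype.ofFinite idx
  set β := ∑ i, f i • P.root i with hβ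
  have hβ0 : β ≠ 0 := by
    intro h0
    obtain ⟨i, hi⟩ := hne
    have h2 : (0 : b.support → ℤ) = f := eq_of_sum_eq (by rw [← hβ, h0]; simp)
    rw [← h2] at hi
    simp at hi
  have hmem : β ∈ P.rootSpan ℤ := Submodule.sum_mem _ fun i _ =>
    Submodule.smul_mem _ _ (Submodule.subset_span ⟨i, rfl⟩)
  have hpos : 0 < P.RootForm β β := P.rootForm_pos_of_ne_zero hmem hβ0
  have h1 : P.RootForm β β = ∑ i, f i * P.RootForm (P.root i) β := by
    have h0 : ∀ γ, P.RootForm β γ = ∑ i, f i * P.RootForm (P.root i) γ := by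
      intro γ
      rw [hβ, map_sum, LinearMap.sum_apply]
      refine Finset.sum_congr rfl fun i _ => ?_
      rw [map_smul, LinearMap.smul_apply, smul_eq_mul]
    exact h0 β
  rw [h1] at hpos
  obtain ⟨j, -, hj⟩ : ∃ j ∈ (Finset.univ : Finset b.support), 0 < f j * P.RootForm (P.root j) β := by
    by_contra! h
    exact absurd hpos (not_lt.2 (Finset.sum_nonpos h))
  have hfj : 0 < f j := by
    rcases (hf j).eq_or_lt with h | h
    · rw [← h, zero_mul] at hj
      exact absurd hj (lt_irrefl _)
    · exact h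
  have hj2 : 0 < P.RootForm (P.root j) β := (pos_iff_pos_of_mul_pos hj).1 hfj
  refine ⟨j, hfj, ?_⟩
  have h3 : P.RootForm (P.root j) (P.root j) * P.coroot' j β = 2 * P.RootForm (P.root j) β := by
    have h4 := congrArg (fun n => P.toLinearMap β n) (P.rootForm_self_smul_coroot (j : idx))
    simp only [map_smul, smul_eq_mul, nsmul_eq_mul, Nat.cast_ofNat, map_nsmul] at h4
    rw [P.toLinearMap_apply_apply_Polarization] at h4
    exact h4
  have h5 : 0 < P.RootForm (P.root j) (P.root j) :=
    P.rootForm_pos_of_ne_zero (Submodule.subset_span ⟨j, rfl⟩) (P.ne_zero _)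
  have h6 : 0 < P.RootForm (P.root j) (P.root j) * P.coroot' j β := by
    rw [h3]; positivity
  exact (pos_iff_pos_of_mul_pos h6).1 h5

end Groth.Agent.RedSub.H507.Cone
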