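import Mathlib.Data.Matrix.Mul
import Mathlib.Data.Matrix.Diagonal
import Mathlib.LinearAlgebra.Matrix.Trace
import Mathlib.Algebra.Lie.OfAssociative
import Mathlib.Tactic.NoncommRing
import Mathlib.Tactic.Abel

/-!
# Matrices graded by weights

`IsWt wt β A`: the matrix `A` is homogeneous of weight `β` for the grading `wt : κ → M`.
-/

set_option autoImplicit false

namespace Groth.Agent.RedSub.H507.Grade

variable {κ M R : Type*} [AddCommGroup M] [CommRing R]

/-- `A` shifts weights by `β`. -/
def IsWt (wt : κ → M) (β : M) (A : Matrix κ κ R) : Prop :=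
  ∀ k l, A k l ≠ 0 → wt k = wt l + β

variable {wt : κ → M} {β γ : M} {A B : Matrix κ κ R}

lemma IsWt.zero : IsWt wt β (0 : Matrix κ κ R) := fun k l h => absurd rfl h

lemma IsWt.add (hA : IsWt wt β A) (hB : IsWt wt β B) : IsWt wt β (A + B) := by
  intro k l h
  by_cases h1 : A k l = 0
  · refine hB k l fun h2 => h ?_
    rw [Matrix.add_apply, h1, h2, add_zero]
  · exact hA k l h1

lemma IsWt.neg (hA : IsWt wt β A) : IsWt wt β (-A) := by
  intro k l h
  refine hA k l fun h2 => h ?_
  rw [Matrix.neg_apply, h2, neg_zero]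

lemma IsWt.sub (hA : IsWt wt β A) (hB : IsWt wt β B) : IsWt wt β (A - B) := by
  rw [sub_eq_add_neg]
  exact hA.add hB.neg

lemma IsWt.smul {S : Type*} [SMulZeroClass S R] (c : S) (hA : IsWt wt β A) : IsWt wt β (c • A) := by
  intro k l h
  refine hA k l fun h2 => h ?_
  rw [Matrix.smul_apply, h2, smul_zero]

lemma IsWt.sum {ι : Type*} {s : Finset ι} {f : ι → Matrix κ κ R} (h : ∀ i ∈ s, IsWt wt β (f i)) :
    IsWt wt β (∑ i ∈ s, f i) := by
  classical
  induction s using Finset.induction_on with
  | empty => rw [Finset.sum_empty]; exact IsWt.zero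
  | insert a s ha ih =>
    rw [Finset.sum_insert ha]
    exact (h a (by simp)).add (ih fun i hi => h i (by simp [hi]))

lemma IsWt.one [DecidableEq κ] : IsWt wt 0 (1 : Matrix κ κ R) := by
  intro k l h
  by_cases hkl : k = l
  · rw [hkl, add_zero]
  · exact absurd (Matrix.one_apply_ne hkl) h

lemma IsWt.diagonal [DecidableEq κ] (d : κ → R) : IsWt wt 0 (Matrix.diagonal d) := by
  intro k l h
  by_cases hkl : k = l
  · rw [hkl, add_zero]
  · exact absurd (Matrix.diagonal_apply_ne d hkl) h

lemma IsWt.map {S : Type*} [CommRing S] (f : R →+* S) (hA : IsWt wt β A) :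
    IsWt wt β (A.map f) := by
  intro k l h
  refine hA k l fun h2 => h ?_
  rw [Matrix.map_apply, h2, map_zero]

lemma IsWt.mul [Fintype κ] (hA : IsWt wt β A) (hB : IsWt wt γ B) : IsWt wt (β + γ) (A * B) := by
  intro k l h
  rw [Matrix.mul_apply] at h
  obtain ⟨m, -, hm⟩ := Finset.exists_ne_zero_of_sum_ne_zero h
  rw [hA k m (left_ne_zero_of_mul hm), hB m l (right_ne_zero_of_mul hm)]
  abel

lemma IsWt.pow [Fintype κ] [DecidableEq κ] (hA : IsWt wt β A) (n : ℕ) :
    IsWt wt (n • β) (A ^ n) := by
  induction n with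
  | zero => rw [zero_smul, pow_zero]; exact IsWt.one
  | succ n ih =>
    rw [pow_succ, succ_nsmul]
    exact ih.mul hA

/-- An integral matrix `A n` with `n! A_n = A^n` is homogeneous of weight `n β`. -/
lemma IsWt.of_smul_ne_zero {c : ℤ} (hc : c ≠ 0) {A : Matrix κ κ ℤ} (h : IsWt wt β (c • A)) :
    IsWt wt β A := by
  intro k l hkl
  refine h k l ?_
  rw [Matrix.smul_apply, smul_eq_mul]
  exact mul_ne_zero hc hkl

lemma IsWt.trace_mul_eq_zero [Fintype κ] (hA : IsWt wt β A) (hB : IsWt wt γ B) (h : β + γ ≠ 0) :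
    (A * B).trace = 0 := by
  rw [Matrix.trace]
  refine Finset.sum_eq_zero fun k _ => ?_
  by_contra hk
  have := (hA.mul hB) k k hk
  exact h (by simpa using this)

/-! ### The projection to the weight `β` part -/

section proj

variable [DecidableEq M]

/-- the component of weight `β` -/
def proj (wt : κ → M) (β : M) (A : Matrix κ κ R) : Matrix κ κ R :=
  Matrix.of fun k l => if wt k = wt l + β then A k l else 0

lemma proj_apply (A : Matrix κ κ R) (k l : κ) :
    proj wt β A k l = if wt k = wt l + β then A k l else 0 := rfl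

lemma isWt_proj (A : Matrix κ κ R) : IsWt wt β (proj wt β A) := by
  intro k l h
  rw [proj_apply] at h
  by_contra h1
  exact h (if_neg h1)

lemma proj_of_isWt (hA : IsWt wt β A) : proj wt β A = A := by
  ext k l
  rw [proj_apply]
  split_ifs with h
  · rfl
  · by_contra h1
    exact h (hA k l (Ne.symm h1))

lemma proj_of_isWt_ne (hA : IsWt wt γ A) (h : γ ≠ β) : proj wt β A = 0 := by
  ext k l
  rw [proj_apply]
  split_ifs with h1
  · by_contra h2
    have := hA k l h2
    rw [h1] at this
    exact h (add_left_cancel this).symm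
  · rfl

/-- the projection as a linear map -/
def projL (R : Type*) [CommRing R] (wt : κ → M) (β : M) : Matrix κ κ R →ₗ[R] Matrix κ κ R where
  toFun := proj wt β
  map_add' A B := by
    ext k l
    simp only [proj_apply, Matrix.add_apply]
    split_ifs <;> simp
  map_smul' c A := by
    ext k l
    simp only [proj_apply, Matrix.smul_apply, RingHom.id_apply]
    split_ifs <;> simp

@[simp] lemma projL_apply (A : Matrix κ κ R) : projL R wt β A = proj wt β A := rfl

end proj

end Groth.Agent.RedSub.H507.Grade
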