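import Mathlib.RingTheory.Nilpotent.Exp
import Mathlib.Data.Matrix.Mul
import Mathlib.Data.Matrix.Basic
import Mathlib.LinearAlgebra.Matrix.Notation
import Mathlib.Algebra.Algebra.Rat
import Mathlib.Data.Nat.Choose.Sum
import Mathlib.Data.Nat.Choose.Basic
import Mathlib.Algebra.BigOperators.NatAntidiagonal
import Mathlib.Algebra.BigOperators.Ring.Finset
import Groth.Agent.RedSub.H507.Grade

/-!
# Integral divided powers and the associated one-parameter subgroups

`DP κ` : a nilpotent integral matrix all of whose divided powers are integral;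
`DP.exp X t` : the exponential `∑ t^n X^(n)` over any commutative ring.
-/

set_option autoImplicit false
set_option linter.dupNamespace false

namespace Groth.Agent.RedSub.H507.DP

open Finset

variable (κ : Type) [Fintype κ] [DecidableEq κ]

/-- A nilpotent integral matrix with integral divided powers. -/
structure DP where
  /-- the divided powers -/
  X : ℕ → Matrix κ κ ℤ
  pow : ∀ n, (n.factorial : ℤ) • X n = X 1 ^ n
  nil : ∃ n, X 1 ^ n = 0

namespace DP

variable {κ} (D : DP κ)

lemma smul_cancel {c : ℤ} (hc : c ≠ 0) {A B : Matrix κ κ ℤ} (h : c • A = c • B) : A = B := by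
  ext k l
  have := congrFun (congrFun h k) l
  simp only [Matrix.smul_apply, smul_eq_mul] at this
  exact mul_left_cancel₀ hc this

lemma X_zero : D.X 0 = 1 := by
  have := D.pow 0
  simpa using this

/-- a bound for the nonzero divided powers -/
noncomputable def bd : ℕ := D.nil.choose

lemma X_bd : D.X 1 ^ D.bd = 0 := D.nil.choose_spec

lemma X_eq_zero {n : ℕ} (h : D.bd ≤ n) : D.X n = 0 := by
  apply smul_cancel (c := (n.factorial : ℤ)) (by exact_mod_cast n.factorial_ne_zero)
  rw [D.pow, smul_zero]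
  exact pow_eq_zero_of_le h D.X_bd

lemma X_mul (m n : ℕ) : D.X m * D.X n = ((m + n).choose m : ℤ) • D.X (m + n) := by
  apply smul_cancel (c := (m.factorial : ℤ) * n.factorial)
    (mul_ne_zero (by exact_mod_cast m.factorial_ne_zero) (by exact_mod_cast n.factorial_ne_zero))
  have h1 : ((m.factorial : ℤ) * n.factorial) • (D.X m * D.X n) =
      ((m.factorial : ℤ) • D.X m) * ((n.factorial : ℤ) • D.X n) := by
    rw [smul_mul_smul_comm]
  rw [h1, D.pow, D.pow, ← pow_add, smul_smul, ← D.pow (m + n)]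
  congr 1
  have := Nat.add_choose_mul_factorial_mul_factorial m n
  rw [← Nat.choose_symm_add] at this
  have h2 : ((m + n).choose m * m.factorial * n.factorial : ℤ) = (m + n).factorial := by
    exact_mod_cast this
  rw [← h2]
  ring

variable {B C : Type*} [CommRing B] [CommRing C]

/-- the base change of the divided powers -/
noncomputable def XB (B : Type*) [CommRing B] (n : ℕ) : Matrix κ κ B := (D.X n).map (Int.castRingHom B)

lemma XB_apply (n : ℕ) (k l : κ) : D.XB B n k l = ((D.X n k l : ℤ) : B) := rfl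

lemma XB_zero : D.XB B 0 = 1 := by
  rw [XB, X_zero, Matrix.map_one _ (map_zero _) (map_one _)]

lemma XB_eq_zero {n : ℕ} (h : D.bd ≤ n) : D.XB B n = 0 := by
  rw [XB, X_eq_zero _ h]
  ext k l
  simp

lemma map_smul_int (c : ℤ) (A : Matrix κ κ ℤ) :
    (c • A).map (Int.castRingHom B) = (c : B) • A.map (Int.castRingHom B) := by
  ext k l
  simp only [Matrix.map_apply, Matrix.smul_apply, smul_eq_mul, eq_intCast, Int.cast_mul]

lemma XB_mul (m n : ℕ) : D.XB B m * D.XB B n = ((m + n).choose m : B) • D.XB B (m + n) := by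
  rw [XB, XB, ← Matrix.map_mul, D.X_mul, map_smul_int]
  simp [XB]

lemma XB_map (f : B →+* C) (n : ℕ) : (D.XB B n).map f = D.XB C n := by
  ext k l
  simp [XB]

/-- The exponential. -/
noncomputable def exp (t : B) : Matrix κ κ B := ∑ n ∈ range D.bd, t ^ n • D.XB B n

lemma exp_eq_sum (t : B) {m : ℕ} (hm : D.bd ≤ m) :
    D.exp t = ∑ n ∈ range m, t ^ n • D.XB B n := by
  rw [exp]
  refine (sum_subset (range_subset_range.2 hm) fun n _ hn => ?_)
  rw [mem_range, not_lt] at hn
  rw [XB_eq_zero _ hn, smul_zero]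

lemma exp_map (f : B →+* C) (t : B) : (D.exp t).map f = D.exp (f t) := by
  have : (D.exp t).map f = f.mapMatrix (D.exp t) := rfl
  rw [this, exp, map_sum, exp]
  refine sum_congr rfl fun n _ => ?_
  ext k l
  simp [XB]

lemma exp_zero : D.exp (0 : B) = 1 := by
  rw [D.exp_eq_sum (0 : B) (Nat.le_succ D.bd), sum_range_succ']
  simp [XB_zero]

lemma exp_add (s t : B) : D.exp (s + t) = D.exp s * D.exp t := by
  set m := D.bd
  have h1 : D.exp (s + t) = ∑ n ∈ range (2 * m), ∑ p ∈ antidiagonal n,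
      (s ^ p.1 • D.XB B p.1) * (t ^ p.2 • D.XB B p.2) := by
    rw [D.exp_eq_sum (s + t) (show D.bd ≤ 2 * m by omega)]
    refine sum_congr rfl fun n _ => ?_
    rw [Commute.add_pow' (Commute.all s t), sum_smul]
    refine sum_congr rfl fun p hp => ?_
    rw [mem_antidiagonal] at hp
    rw [smul_mul_smul_comm, D.XB_mul, smul_smul, hp, nsmul_eq_mul, mul_comm]
  rw [h1, exp, exp, sum_mul_sum]
  -- both sides are sums over pairs
  have h2 : ∑ i ∈ range m, ∑ j ∈ range m, (s ^ i • D.XB B i) * (t ^ j • D.XB B j) =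
      ∑ p ∈ range m ×ˢ range m, (s ^ p.1 • D.XB B p.1) * (t ^ p.2 • D.XB B p.2) :=
    (sum_product' _ _ _).symm
  rw [h2, sum_sigma']
  symm
  refine sum_bij_ne_zero (fun p _ _ => ⟨p.1 + p.2, p⟩) ?_ ?_ ?_ ?_
  · rintro ⟨i, j⟩ hp _
    simp only [mem_product, mem_range] at hp
    simp only [mem_sigma, mem_range, mem_antidiagonal, and_true]
    omega
  · rintro ⟨i, j⟩ _ _ ⟨i', j'⟩ _ _ h
    simp only [Sigma.mk.injEq] at h
    exact eq_of_heq h.2
  · rintro ⟨n, ⟨i, j⟩⟩ hp hne
    simp only [mem_sigma, mem_range, mem_antidiagonal] at hp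
    refine ⟨(i, j), ?_, hne, ?_⟩
    · simp only [mem_product, mem_range]
      constructor
      · by_contra h
        rw [XB_eq_zero _ (not_lt.1 h)] at hne
        simp at hne
      · by_contra h
        rw [XB_eq_zero _ (not_lt.1 h)] at hne
        simp at hne
    · obtain ⟨-, rfl⟩ := hp
      rfl
  · rintro ⟨i, j⟩ _ _
    rfl

lemma exp_mul_exp_neg (t : B) : D.exp t * D.exp (-t) = 1 := by
  rw [← exp_add, add_neg_cancel, exp_zero]

lemma exp_neg_mul_exp (t : B) : D.exp (-t) * D.exp t = 1 := by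
  rw [← exp_add, neg_add_cancel, exp_zero]

/-- the exponential as an invertible matrix -/
noncomputable def expU (t : B) : (Matrix κ κ B)ˣ where
  val := D.exp t
  inv := D.exp (-t)
  val_inv := D.exp_mul_exp_neg t
  inv_val := D.exp_neg_mul_exp t

@[simp] lemma expU_val (t : B) : (D.expU t : Matrix κ κ B) = D.exp t := rfl

lemma expU_inv_val (t : B) : ((D.expU t)⁻¹ : (Matrix κ κ B)ˣ).val = D.exp (-t) := rfl

lemma expU_add (s t : B) : D.expU (s + t) = D.expU s * D.expU t := Units.ext (D.exp_add s t)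

lemma expU_zero : D.expU (0 : B) = 1 := Units.ext D.exp_zero

lemma expU_neg (t : B) : D.expU (-t) = (D.expU t)⁻¹ := Units.ext (by rw [expU_inv_val, expU_val])

lemma XB_pow_eq (n : ℕ) : (n.factorial : B) • D.XB B n = D.XB B 1 ^ n := by
  have h1 : D.XB B 1 ^ n = (D.X 1 ^ n).map (Int.castRingHom B) := by
    have : D.XB B 1 = (Int.castRingHom B).mapMatrix (D.X 1) := rfl
    rw [this, ← map_pow]; rfl
  rw [h1, ← D.pow, map_smul_int]
  simp [XB]

lemma isNilpotent_XB : IsNilpotent (D.XB B 1) :=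
  ⟨D.bd, by rw [← XB_pow_eq, XB_eq_zero _ le_rfl, smul_zero]⟩

/-- Over a `ℚ`-algebra `exp` is the usual exponential. -/
lemma exp_eq [Algebra ℚ B] (t : B) : D.exp t = IsNilpotent.exp (t • D.XB B 1) := by
  have h1 : (t • D.XB B 1) ^ D.bd = 0 := by
    rw [_root_.smul_pow, ← XB_pow_eq, XB_eq_zero _ le_rfl, smul_zero, smul_zero]
  rw [IsNilpotent.exp_eq_sum h1, exp]
  refine sum_congr rfl fun n _ => ?_
  rw [_root_.smul_pow, ← XB_pow_eq, smul_smul]
  have h2 : ((n.factorial : ℚ)⁻¹ • (t ^ n * (n.factorial : B)) : B) = t ^ n := by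
    rw [Algebra.smul_def, mul_comm (t ^ n), ← mul_assoc]
    have : algebraMap ℚ B ((n.factorial : ℚ)⁻¹) * (n.factorial : B) = 1 := by
      have h3 : (n.factorial : B) = algebraMap ℚ B (n.factorial : ℚ) := by simp
      rw [h3, ← map_mul, inv_mul_cancel₀ (by exact_mod_cast n.factorial_ne_zero), map_one]
    rw [this, one_mul]
  rw [← smul_assoc, h2]

/-- conjugation of a divided power family by an integral invertible matrix -/
noncomputable def conj (g : (Matrix κ κ ℤ)ˣ) : DP κ where
  X n := g.val * D.X n * g.inv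
  pow n := by
    have h1 : ∀ m : ℕ, (g.val * D.X 1 * g.inv) ^ m = g.val * D.X 1 ^ m * g.inv := by
      intro m
      induction m with
      | zero => simp
      | succ m ih =>
        rw [pow_succ, ih, pow_succ]
        calc g.val * D.X 1 ^ m * g.inv * (g.val * D.X 1 * g.inv)
            = g.val * D.X 1 ^ m * (g.inv * g.val) * D.X 1 * g.inv := by noncomm_ring
          _ = g.val * (D.X 1 ^ m * D.X 1) * g.inv := by rw [g.inv_val]; noncomm_ring
    rw [h1, ← D.pow, mul_smul_comm, smul_mul_assoc]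
  nil := by
    obtain ⟨n, hn⟩ := D.nil
    refine ⟨n, ?_⟩
    have h1 : ∀ m : ℕ, (g.val * D.X 1 * g.inv) ^ m = g.val * D.X 1 ^ m * g.inv := by
      intro m
      induction m with
      | zero => simp
      | succ m ih =>
        rw [pow_succ, ih, pow_succ]
        calc g.val * D.X 1 ^ m * g.inv * (g.val * D.X 1 * g.inv)
            = g.val * D.X 1 ^ m * (g.inv * g.val) * D.X 1 * g.inv := by noncomm_ring
          _ = g.val * (D.X 1 ^ m * D.X 1) * g.inv := by rw [g.inv_val]; noncomm_ring
    rw [h1, hn, mul_zero, zero_mul]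

lemma conj_X (g : (Matrix κ κ ℤ)ˣ) (n : ℕ) : (D.conj g).X n = g.val * D.X n * g.inv := rfl

/-- base change of an integral invertible matrix -/
noncomputable def mapZ (B : Type*) [CommRing B] : (Matrix κ κ ℤ)ˣ →* (Matrix κ κ B)ˣ :=
  Units.map (Int.castRingHom B).mapMatrix.toMonoidHom

lemma mapZ_val (g : (Matrix κ κ ℤ)ˣ) : (mapZ B g : Matrix κ κ B) = g.val.map (Int.castRingHom B) := rfl

lemma mapZ_inv_val (g : (Matrix κ κ ℤ)ˣ) :
    ((mapZ B g)⁻¹ : (Matrix κ κ B)ˣ).val = g.inv.map (Int.castRingHom B) := rfl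

lemma exp_conj (g : (Matrix κ κ ℤ)ˣ) (t : B) :
    (D.conj g).exp t = (mapZ B g).val * D.exp t * ((mapZ B g)⁻¹ : (Matrix κ κ B)ˣ).val := by
  rw [(D.conj g).exp_eq_sum t (le_max_left _ D.bd), D.exp_eq_sum t (le_max_right (D.conj g).bd _),
    mul_sum, sum_mul]
  refine sum_congr rfl fun n _ => ?_
  rw [mul_smul_comm, smul_mul_assoc, XB, conj_X, Matrix.map_mul, Matrix.map_mul]
  rfl

lemma expU_conj (g : (Matrix κ κ ℤ)ˣ) (t : B) :
    (D.conj g).expU t = mapZ B g * D.expU t * (mapZ B g)⁻¹ := Units.ext (D.exp_conj g t)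

/-- all divided powers are determined by the first -/
lemma ext_of_X_one {D D' : DP κ} (h : D.X 1 = D'.X 1) : D = D' := by
  have : D.X = D'.X := by
    funext n
    apply smul_cancel (c := (n.factorial : ℤ)) (by exact_mod_cast n.factorial_ne_zero)
    rw [D.pow, D'.pow, h]
  cases D; cases D'
  simp only [DP.mk.injEq]
  exact this

/-- the negative of a divided power family -/
noncomputable def neg : DP κ where
  X n := (-1 : ℤ) ^ n • D.X n
  pow n := by
    rw [smul_comm, D.pow, pow_one, _root_.smul_pow]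
  nil := by
    obtain ⟨n, hn⟩ := D.nil
    exact ⟨n, by rw [pow_one, _root_.smul_pow, hn, smul_zero]⟩

lemma neg_X_one : D.neg.X 1 = - D.X 1 := by
  change (-1 : ℤ) ^ 1 • D.X 1 = _
  simp

lemma neg_exp (t : B) : D.neg.exp t = D.exp (-t) := by
  rw [D.neg.exp_eq_sum t (le_max_left _ D.bd), D.exp_eq_sum (-t) (le_max_right D.neg.bd _)]
  refine sum_congr rfl fun n _ => ?_
  have : D.neg.XB B n = (-1 : B) ^ n • D.XB B n := by
    have h1 : D.neg.X n = (-1 : ℤ) ^ n • D.X n := rfl
    rw [XB, h1, map_smul_int]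
    simp [XB]
  rw [this, smul_smul, neg_pow t n, mul_comm]

lemma neg_expU (t : B) : D.neg.expU t = D.expU (-t) := Units.ext (D.neg_exp t)

variable {M : Type} [AddCommGroup M]

lemma isWt_X {wt : κ → M} {β : M} (h : Grade.IsWt wt β (D.X 1)) (n : ℕ) :
    Grade.IsWt wt (n • β) (D.X n) := by
  apply Grade.IsWt.of_smul_ne_zero (c := (n.factorial : ℤ)) (by exact_mod_cast n.factorial_ne_zero)
  rw [D.pow]
  exact h.pow n

lemma isWt_XB {wt : κ → M} {β : M} (h : Grade.IsWt wt β (D.X 1)) (n : ℕ) :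
    Grade.IsWt wt (n • β) (D.XB B n) := (D.isWt_X h n).map _

end DP

end Groth.Agent.RedSub.H507.DP
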