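import Mathlib.Algebra.Algebra.Bilinear
import Mathlib.Algebra.Algebra.Rat
import Mathlib.LinearAlgebra.Span.Basic
import Mathlib.Tactic.NoncommRing
import Mathlib.Tactic.Abel

/-!
# The Lie subalgebra generated by a subset of an associative algebra

`lieClos S` and the triangular decomposition.
-/

set_option autoImplicit false

namespace Groth.Agent.RedSub.H507.LieClos

variable {A : Type*} [Ring A] [Algebra ℚ A]

/-- the commutator -/
def br (x y : A) : A := x * y - y * x

omit [Algebra ℚ A] in
lemma br_self (x : A) : br x x = 0 := sub_self _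

omit [Algebra ℚ A] in
lemma br_neg (x y : A) : - br x y = br y x := by simp [br]

omit [Algebra ℚ A] in
lemma br_add (x y z : A) : br x (y + z) = br x y + br x z := by simp only [br]; noncomm_ring

omit [Algebra ℚ A] in
lemma add_br (x y z : A) : br (x + y) z = br x z + br y z := by simp only [br]; noncomm_ring

omit [Algebra ℚ A] in
lemma br_zero (x : A) : br x 0 = 0 := by simp [br]

omit [Algebra ℚ A] in
lemma zero_br (x : A) : br 0 x = 0 := by simp [br]

lemma br_smul (c : ℚ) (x y : A) : br x (c • y) = c • br x y := by simp [br, smul_sub]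

lemma smul_br (c : ℚ) (x y : A) : br (c • x) y = c • br x y := by simp [br, smul_sub]

omit [Algebra ℚ A] in
lemma jacobi (x y z : A) : br x (br y z) = br (br x y) z + br y (br x z) := by
  simp only [br]; noncomm_ring

omit [Algebra ℚ A] in
lemma jacobi' (x y z : A) : br (br x y) z = br x (br y z) - br y (br x z) := by
  simp only [br]; noncomm_ring

/-- closure of a set under linear combinations and commutators -/
inductive InClos (S : Set A) : A → Prop
  | of (x : A) (h : x ∈ S) : InClos S x
  | zero : InClos S 0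
  | add (x y : A) (hx : InClos S x) (hy : InClos S y) : InClos S (x + y)
  | smul (c : ℚ) (x : A) (hx : InClos S x) : InClos S (c • x)
  | comm (x y : A) (hx : InClos S x) (hy : InClos S y) : InClos S (br x y)

/-- The Lie subalgebra generated by `S`, as a subspace. -/
def lieClos (S : Set A) : Submodule ℚ A where
  carrier := {x | InClos S x}
  add_mem' hx hy := InClos.add _ _ hx hy
  zero_mem' := InClos.zero
  smul_mem' c _ hx := InClos.smul c _ hx

variable {S : Set A}

lemma subset_lieClos {x : A} (h : x ∈ S) : x ∈ lieClos S := InClos.of x h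

lemma br_mem {x y : A} (hx : x ∈ lieClos S) (hy : y ∈ lieClos S) : br x y ∈ lieClos S :=
  InClos.comm x y hx hy

/-- A subspace containing `S` and stable under commutators contains `lieClos S`. -/
lemma lieClos_le {L : Submodule ℚ A} (h : ∀ x ∈ S, x ∈ L)
    (hL : ∀ x y, x ∈ L → y ∈ L → br x y ∈ L) : lieClos S ≤ L := by
  intro x hx
  induction hx with
  | of x hx => exact h x hx
  | zero => exact L.zero_mem
  | add x y _ _ h1 h2 => exact L.add_mem h1 h2
  | smul c x _ h1 => exact L.smul_mem c h1
  | comm x y _ _ h1 h2 => exact hL x y h1 h2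

/-- If `L` contains the generators and is stable under commutators with the generators it contains
`lieClos S`. -/
lemma lieClos_le_of_gen {L : Submodule ℚ A} (h : ∀ x ∈ S, x ∈ L)
    (hL : ∀ x ∈ S, ∀ y ∈ L, br x y ∈ L) : lieClos S ≤ L := by
  have h1 : ∀ x ∈ lieClos S, ∀ y ∈ L, br x y ∈ L := by
    intro x hx
    induction hx with
    | of x hx => exact hL x hx
    | zero => intro y _; rw [zero_br]; exact L.zero_mem
    | add x y _ _ h1 h2 => intro z hz; rw [add_br]; exact L.add_mem (h1 z hz) (h2 z hz)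
    | smul c x _ h1 => intro z hz; rw [smul_br]; exact L.smul_mem c (h1 z hz)
    | comm x y _ _ h1 h2 =>
      intro z hz
      rw [jacobi']
      exact L.sub_mem (h1 _ (h2 z hz)) (h2 _ (h1 z hz))
  intro x hx
  induction hx with
  | of x hx => exact h x hx
  | zero => exact L.zero_mem
  | add x y _ _ h1 h2 => exact L.add_mem h1 h2
  | smul c x _ h1 => exact L.smul_mem c h1
  | comm x y hx _ _ h4 => exact h1 x hx y h4

section Triang

variable {s : Type*} {t : Submodule ℚ A} {E F : s → A}

lemma br_t_mem (hE : ∀ x ∈ t, ∀ i, ∃ c : ℚ, br x (E i) = c • E i) {x y : A} (hx : x ∈ t)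
    (hy : y ∈ lieClos (Set.range E)) : br x y ∈ lieClos (Set.range E) := by
  induction hy with
  | of y hy =>
    obtain ⟨i, rfl⟩ := hy
    obtain ⟨c, hc⟩ := hE x hx i
    rw [hc]
    exact Submodule.smul_mem _ c (subset_lieClos ⟨i, rfl⟩)
  | zero => rw [br_zero]; exact Submodule.zero_mem _
  | add y z _ _ h1 h2 => rw [br_add]; exact Submodule.add_mem _ h1 h2
  | smul c y _ h1 => rw [br_smul]; exact Submodule.smul_mem _ c h1
  | comm y z hy hz h1 h2 =>
    rw [jacobi]
    exact Submodule.add_mem _ (br_mem h1 hz) (br_mem hy h2)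

lemma br_F_mem (hE : ∀ x ∈ t, ∀ i, ∃ c : ℚ, br x (E i) = c • E i)
    (hEF : ∀ i j, br (F j) (E i) ∈ t) (j : s) {y : A}
    (hy : y ∈ lieClos (Set.range E)) : br (F j) y ∈ t ⊔ lieClos (Set.range E) := by
  have key : ∀ x ∈ t ⊔ lieClos (Set.range E), ∀ y ∈ lieClos (Set.range E),
      br x y ∈ lieClos (Set.range E) := by
    intro x hx y hy
    obtain ⟨x1, h1, x2, h2, rfl⟩ := Submodule.mem_sup.1 hx
    rw [add_br]
    exact Submodule.add_mem _ (br_t_mem hE h1 hy) (br_mem h2 hy)
  induction hy with
  | of y hy =>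
    obtain ⟨i, rfl⟩ := hy
    exact Submodule.mem_sup_left (hEF i j)
  | zero => rw [br_zero]; exact Submodule.zero_mem _
  | add y z _ _ h1 h2 => rw [br_add]; exact Submodule.add_mem _ h1 h2
  | smul c y _ h1 => rw [br_smul]; exact Submodule.smul_mem _ c h1
  | comm y z hy hz h1 h2 =>
    rw [jacobi]
    refine Submodule.add_mem _ (Submodule.mem_sup_right (key _ h1 z hz)) ?_
    rw [← br_neg]
    exact Submodule.neg_mem _ (Submodule.mem_sup_right (key _ h2 y hy))

/-- Triangular decomposition. -/
theorem triang (htt : ∀ x ∈ t, ∀ y ∈ t, br x y = 0)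
    (hE : ∀ x ∈ t, ∀ i, ∃ c : ℚ, br x (E i) = c • E i)
    (hF : ∀ x ∈ t, ∀ i, ∃ c : ℚ, br x (F i) = c • F i)
    (hEF : ∀ i j, br (E i) (F j) ∈ t) :
    lieClos ((t : Set A) ∪ (Set.range E ∪ Set.range F)) ≤
      lieClos (Set.range F) ⊔ t ⊔ lieClos (Set.range E) := by
  have hEF' : ∀ i j, br (F j) (E i) ∈ t := fun i j => by
    rw [← br_neg]; exact t.neg_mem (hEF i j)
  apply lieClos_le_of_gen
  · rintro x (hx | ⟨i, rfl⟩ | ⟨i, rfl⟩)
    · exact Submodule.mem_sup_left (Submodule.mem_sup_right hx)
    · exact Submodule.mem_sup_right (subset_lieClos ⟨i, rfl⟩)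
    · exact Submodule.mem_sup_left (Submodule.mem_sup_left (subset_lieClos ⟨i, rfl⟩))
  · rintro x hx y hy
    obtain ⟨y', hy', y3, h3, rfl⟩ := Submodule.mem_sup.1 hy
    obtain ⟨y1, h1, y2, h2, rfl⟩ := Submodule.mem_sup.1 hy'
    rw [br_add, br_add]
    rcases hx with hx | ⟨i, rfl⟩ | ⟨i, rfl⟩
    · refine Submodule.add_mem _ (Submodule.mem_sup_left ?_) (Submodule.mem_sup_right (br_t_mem hE hx h3))
      rw [htt x hx y2 h2, add_zero]
      exact Submodule.mem_sup_left (br_t_mem hF hx h1)
    · refine Submodule.add_mem _ (Submodule.add_mem _ (Submodule.mem_sup_left ?_) ?_) ?_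
      · rw [sup_comm]
        exact br_F_mem (t := t) (E := F) (F := E) hF (fun i j => hEF j i) i h1
      · obtain ⟨c, hc⟩ := hE y2 h2 i
        rw [← br_neg, hc]
        exact Submodule.mem_sup_right (Submodule.neg_mem _ (Submodule.smul_mem _ c
          (subset_lieClos ⟨i, rfl⟩)))
      · exact Submodule.mem_sup_right (br_mem (subset_lieClos ⟨i, rfl⟩) h3)
    · refine Submodule.add_mem _ (Submodule.add_mem _ (Submodule.mem_sup_left ?_) ?_) ?_
      · exact Submodule.mem_sup_left (br_mem (subset_lieClos ⟨i, rfl⟩) h1)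
      · obtain ⟨c, hc⟩ := hF y2 h2 i
        rw [← br_neg, hc]
        exact Submodule.mem_sup_left (Submodule.mem_sup_left (Submodule.neg_mem _
          (Submodule.smul_mem _ c (subset_lieClos ⟨i, rfl⟩))))
      · have := br_F_mem (t := t) (E := E) (F := F) hE hEF' i h3
        rw [sup_assoc]
        exact Submodule.mem_sup_right this

end Triang

end Groth.Agent.RedSub.H507.LieClos
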