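import Groth.Agent.RedSub.H507.RootLie

/-!
# Integral lifts of Weyl group elements
-/

set_option autoImplicit false

open Groth.Agent.RedSub.H630.ChevDefs (ChevMat)

namespace Groth.Agent.RedSub.H507.Lift

open Grade LieClos Supp Cone RootLie DP

variable {idx M : Type} [AddCommGroup M] {P : RootPairing idx ℤ M (Module.Dual ℤ M)} {b : P.Base}

/-- integral divided powers of a matrix of nonzero weight -/
noncomputable def dpOf {J : Type} [Fintype J] [DecidableEq J] [IsAddTorsionFree M] {wt : J → M}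
    {β : M} (hβ : β ≠ 0) {x : Matrix J J ℤ} (hx : IsWt wt β x)
    (h : ∀ n : ℕ, ∃ X : Matrix J J ℤ, (n.factorial : ℤ) • X = x ^ n) : DP.DP J where
  X n := (h n).choose
  pow n := by
    have h1 : (h 1).choose = x := by simp
    rw [(h n).choose_spec, h1]
  nil := by
    have h1 : (h 1).choose = x := by simp
    rw [h1]
    exact isNilpotent_of_isWt hx hβ

lemma dpOf_one {J : Type} [Fintype J] [DecidableEq J] [IsAddTorsionFree M] {wt : J → M}
    {β : M} (hβ : β ≠ 0) {x : Matrix J J ℤ} (hx : IsWt wt β x)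
    (h : ∀ n : ℕ, ∃ X : Matrix J J ℤ, (n.factorial : ℤ) • X = x ^ n) : (dpOf hβ hx h).X 1 = x := by
  have : (h 1).choose = x := by simp
  exact this

variable (C : ChevMat P b) [IsAddTorsionFree M]

/-- the divided powers of `e i` -/
noncomputable def dpE (i : b.support) : DP.DP C.J :=
  dpOf (wt := C.wt) (P.ne_zero i) (C.e_wt i) (C.e_div i)

/-- the divided powers of `f i` -/
noncomputable def dpF (i : b.support) : DP.DP C.J :=
  dpOf (wt := C.wt) (neg_ne_zero.2 (P.ne_zero i)) (C.f_wt i) (C.f_div i)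

lemma dpE_one (i : b.support) : (dpE C i).X 1 = C.e i := dpOf_one _ _ _

lemma dpF_one (i : b.support) : (dpF C i).X 1 = C.f i := dpOf_one _ _ _

/-- the integral Weyl element -/
noncomputable def nI (i : b.support) : (Matrix C.J C.J ℤ)ˣ :=
  (dpE C i).expU 1 * (dpF C i).expU (-1) * (dpE C i).expU 1

lemma XB_one_E (i : b.support) : (dpE C i).XB ℚ 1 = e C i := by
  rw [DP.XB, dpE_one]; rfl

lemma XB_one_F (i : b.support) : (dpF C i).XB ℚ 1 = f C i := by
  rw [DP.XB, dpF_one]; rfl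

lemma nilp_e (i : b.support) : IsNilpotent (e C i) := by
  rw [← XB_one_E]; exact DP.isNilpotent_XB _

lemma nilp_f (i : b.support) : IsNilpotent (f C i) := by
  rw [← XB_one_F]; exact DP.isNilpotent_XB _

lemma mapZ_expU {J : Type} [Fintype J] [DecidableEq J] {B : Type*} [CommRing B] (D : DP.DP J)
    (t : ℤ) : (DP.mapZ B (D.expU t)) = D.expU (t : B) := by
  apply Units.ext
  rw [DP.mapZ_val, DP.expU_val, DP.expU_val, DP.exp_map]
  rfl

lemma mapZ_nI (i : b.support) : (DP.mapZ ℚ (nI C i)).val = Sl2.weyl (e C i) (f C i) := by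
  rw [nI, map_mul, map_mul, mapZ_expU, mapZ_expU, Units.val_mul, Units.val_mul, DP.expU_val,
    DP.expU_val, DP.exp_eq, DP.exp_eq, XB_one_E, XB_one_F, Sl2.weyl]
  simp

lemma mapZ_nI_inv (i : b.support) :
    ((DP.mapZ ℚ (nI C i))⁻¹ : (Matrix C.J C.J ℚ)ˣ).val = Sl2.weylInv (e C i) (f C i) := by
  have h1 : (DP.mapZ ℚ (nI C i)).val * Sl2.weylInv (e C i) (f C i) = 1 := by
    rw [mapZ_nI, Sl2.weyl_mul_weylInv (nilp_e C i) (nilp_f C i)]
  exact Units.inv_eq_of_mul_eq_one_right h1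

lemma weyl_neg_neg {A : Type*} [Ring A] [Algebra ℚ A] (E F : A) :
    Sl2.weyl (-E) (-F) = Sl2.weylInv E F := by
  rw [Sl2.weyl, Sl2.weylInv, neg_neg]

variable {C}

/-- Entries of the Weyl element. -/
lemma weyl_entry [Module.Free ℤ M] {i : b.support} {E F : Matrix C.J C.J ℚ} (hE : IsNilpotent E)
    (hF : IsNilpotent F) (hEF : E * F - F * E = tor C (P.coroot' i))
    (hwE : IsWt C.wt (P.root i) E) (hwF : IsWt C.wt (-P.root i) F) {j k : C.J}
    (h : Sl2.weyl E F j k ≠ 0) : C.wt j = P.reflection i (C.wt k) := by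
  rw [← sub_eq_zero, ← Module.forall_dual_apply_eq_zero_iff ℤ]
  intro l
  have hHE : tor C (P.coroot' i) * E - E * tor C (P.coroot' i) = (2 : ℚ) • E := by
    have := tor_br hwE (P.coroot' i)
    rw [br, P.coroot_root_two] at this
    exact_mod_cast this
  have hHF : tor C (P.coroot' i) * F - F * tor C (P.coroot' i) = -((2 : ℚ) • F) := by
    have := tor_br hwF (P.coroot' i)
    rw [br, map_neg, P.coroot_root_two] at this
    rw [this, ← neg_smul]
    norm_num
  have h1 : tor C l * E - E * tor C l = ((l (P.root i) : ℤ) : ℚ) • E := tor_br hwE l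
  have h2 : tor C l * F - F * tor C l = -(((l (P.root i) : ℤ) : ℚ) • F) := by
    have := tor_br hwF l
    rw [br, map_neg] at this
    rw [this, ← neg_smul]
    push_cast
    rfl
  have h3 := Sl2.mul_weyl hE hF hEF hHE hHF h1 h2
  have h4 := congrFun (congrFun h3 j) k
  rw [tor, Matrix.diagonal_mul, mul_sub, Matrix.sub_apply, Matrix.mul_diagonal, mul_smul_comm,
    Matrix.smul_apply, tor, Matrix.mul_diagonal, smul_eq_mul] at h4
  have h5 : (((l (C.wt j) : ℤ) : ℚ) - ((l (C.wt k) : ℤ) : ℚ) +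
      ((l (P.root i) : ℤ) : ℚ) * ((P.coroot' i (C.wt k) : ℤ) : ℚ)) * Sl2.weyl E F j k = 0 := by
    linear_combination h4
  have h6 := (mul_eq_zero.1 h5).resolve_right h
  rw [map_sub, P.reflection_apply, map_sub, map_smul, smul_eq_mul]
  have h7 : ((l (C.wt j) - (l (C.wt k) - P.coroot' i (C.wt k) * l (P.root i)) : ℤ) : ℚ) = 0 := by
    push_cast
    linear_combination h6
  exact_mod_cast h7

variable (C)

/-- An integral invertible matrix lifting the automorphism `w` of `M` and normalising `L`. -/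
structure IsLift (w : M ≃ₗ[ℤ] M) (g : (Matrix C.J C.J ℤ)ˣ) : Prop where
  wt : ∀ j k, g.val j k ≠ 0 → C.wt j = w (C.wt k)
  wt_inv : ∀ j k, (g⁻¹ : (Matrix C.J C.J ℤ)ˣ).val j k ≠ 0 → C.wt j = w.symm (C.wt k)
  mem : ∀ X ∈ L C, (DP.mapZ ℚ g).val * X * ((DP.mapZ ℚ g)⁻¹ : (Matrix C.J C.J ℚ)ˣ).val ∈ L C
  mem_inv : ∀ X ∈ L C, ((DP.mapZ ℚ g)⁻¹ : (Matrix C.J C.J ℚ)ˣ).val * X * (DP.mapZ ℚ g).val ∈ L C

variable {C}

omit [IsAddTorsionFree M] in
lemma isLift_one : IsLift C (LinearEquiv.refl ℤ M) 1 where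
  wt j k h := by
    by_cases hjk : j = k
    · rw [hjk]; rfl
    · exact absurd (Matrix.one_apply_ne hjk) h
  wt_inv j k h := by
    by_cases hjk : j = k
    · rw [hjk]; rfl
    · rw [inv_one] at h
      exact absurd (Matrix.one_apply_ne hjk) h
  mem X hX := by simpa using hX
  mem_inv X hX := by simpa using hX

omit [IsAddTorsionFree M] in
lemma IsLift.mul {w w' : M ≃ₗ[ℤ] M} {g g' : (Matrix C.J C.J ℤ)ˣ} (h : IsLift C w g)
    (h' : IsLift C w' g') : IsLift C (w'.trans w) (g * g') where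
  wt j k hjk := by
    rw [Units.val_mul, Matrix.mul_apply] at hjk
    obtain ⟨m, -, hm⟩ := Finset.exists_ne_zero_of_sum_ne_zero hjk
    rw [h.wt j m (left_ne_zero_of_mul hm), h'.wt m k (right_ne_zero_of_mul hm)]
    rfl
  wt_inv j k hjk := by
    rw [mul_inv_rev, Units.val_mul, Matrix.mul_apply] at hjk
    obtain ⟨m, -, hm⟩ := Finset.exists_ne_zero_of_sum_ne_zero hjk
    rw [h'.wt_inv j m (left_ne_zero_of_mul hm), h.wt_inv m k (right_ne_zero_of_mul hm)]
    rfl
  mem X hX := by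
    have := h.mem _ (h'.mem X hX)
    rw [map_mul, mul_inv_rev, Units.val_mul, Units.val_mul]
    simpa only [mul_assoc] using this
  mem_inv X hX := by
    have := h'.mem_inv _ (h.mem_inv X hX)
    rw [map_mul, mul_inv_rev, Units.val_mul, Units.val_mul]
    simpa only [mul_assoc] using this

lemma isLift_nI [Module.Free ℤ M] (i : b.support) : IsLift C (P.reflection i) (nI C i) where
  wt j k h := by
    have h1 : Sl2.weyl (e C i) (f C i) j k ≠ 0 := by
      rw [← mapZ_nI, DP.mapZ_val, Matrix.map_apply]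
      simpa using h
    exact weyl_entry (nilp_e C i) (nilp_f C i) (br_e_f_same i) (e_wt i) (f_wt i) h1
  wt_inv j k h := by
    have h1 : Sl2.weyl (-e C i) (-f C i) j k ≠ 0 := by
      rw [weyl_neg_neg, ← mapZ_nI_inv, DP.mapZ_inv_val, Matrix.map_apply]
      simpa using h
    have h2 : -e C i * -f C i - -f C i * -e C i = tor C (P.coroot' i) := by
      rw [neg_mul_neg, neg_mul_neg]
      exact br_e_f_same i
    have h3 : IsWt C.wt (-P.root i) (-f C i) := (f_wt i).neg
    exact weyl_entry (nilp_e C i).neg (nilp_f C i).neg h2 (e_wt i).neg h3 h1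
  mem X hX := by
    rw [mapZ_nI, mapZ_nI_inv]
    have h1 : ∀ X ∈ L C, IsNilpotent.exp (e C i) * X * IsNilpotent.exp (-e C i) ∈ L C :=
      fun X hX => Sl2.conj_exp_mem (nilp_e C i) (L C) (fun x hx => br_mem (e_mem i) hx) hX
    have h2 : ∀ X ∈ L C, IsNilpotent.exp (-f C i) * X * IsNilpotent.exp (f C i) ∈ L C := by
      intro X hX
      have := Sl2.conj_exp_mem (nilp_f C i).neg (L C)
        (fun x hx => br_mem (Submodule.neg_mem _ (f_mem i)) hx) hX
      rwa [neg_neg] at this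
    have := h1 _ (h2 _ (h1 _ hX))
    simpa only [Sl2.weyl, Sl2.weylInv, mul_assoc] using this
  mem_inv X hX := by
    rw [mapZ_nI, mapZ_nI_inv]
    have h1 : ∀ X ∈ L C, IsNilpotent.exp (-e C i) * X * IsNilpotent.exp (e C i) ∈ L C := by
      intro X hX
      have := Sl2.conj_exp_mem (nilp_e C i).neg (L C)
        (fun x hx => br_mem (Submodule.neg_mem _ (e_mem i)) hx) hX
      rwa [neg_neg] at this
    have h2 : ∀ X ∈ L C, IsNilpotent.exp (f C i) * X * IsNilpotent.exp (-f C i) ∈ L C :=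
      fun X hX => Sl2.conj_exp_mem (nilp_f C i) (L C) (fun x hx => br_mem (f_mem i) hx) hX
    have := h1 _ (h2 _ (h1 _ hX))
    simpa only [Sl2.weyl, Sl2.weylInv, mul_assoc] using this

omit [IsAddTorsionFree M] in
lemma isWt_conj {R : Type*} [CommRing R] {w : M ≃ₗ[ℤ] M} {g g' : Matrix C.J C.J R}
    (h : ∀ j k, g j k ≠ 0 → C.wt j = w (C.wt k)) (h' : ∀ j k, g' j k ≠ 0 → C.wt j = w.symm (C.wt k))
    {β : M} {X : Matrix C.J C.J R} (hX : IsWt C.wt β X) : IsWt C.wt (w β) (g * X * g') := by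
  intro j k hjk
  rw [Matrix.mul_apply] at hjk
  obtain ⟨q, -, hq⟩ := Finset.exists_ne_zero_of_sum_ne_zero hjk
  have hq1 := left_ne_zero_of_mul hq
  rw [Matrix.mul_apply] at hq1
  obtain ⟨p, -, hp⟩ := Finset.exists_ne_zero_of_sum_ne_zero hq1
  rw [h j p (left_ne_zero_of_mul hp), hX p q (right_ne_zero_of_mul hp), map_add,
    h' q k (right_ne_zero_of_mul hq), LinearEquiv.apply_symm_apply]

section

variable {w : M ≃ₗ[ℤ] M} {g : (Matrix C.J C.J ℤ)ˣ} (h : IsLift C w g)

include h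

omit [IsAddTorsionFree M] in
lemma IsLift.wtQ (j k : C.J) (hjk : (DP.mapZ ℚ g).val j k ≠ 0) : C.wt j = w (C.wt k) := by
  rw [DP.mapZ_val, Matrix.map_apply] at hjk
  exact h.wt j k (by simpa using hjk)

omit [IsAddTorsionFree M] in
lemma IsLift.wtQ_inv (j k : C.J) (hjk : ((DP.mapZ ℚ g)⁻¹ : (Matrix C.J C.J ℚ)ˣ).val j k ≠ 0) :
    C.wt j = w.symm (C.wt k) := by
  rw [DP.mapZ_inv_val, Matrix.map_apply] at hjk
  exact h.wt_inv j k (by simpa using hjk)

omit [IsAddTorsionFree M] in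
lemma IsLift.conj {β : M} {X : Matrix C.J C.J ℤ} (hX : IsWt C.wt β X) :
    IsWt C.wt (w β) (g.val * X * (g⁻¹ : (Matrix C.J C.J ℤ)ˣ).val) := isWt_conj h.wt h.wt_inv hX

omit [IsAddTorsionFree M] in
lemma IsLift.conjQ {β : M} {X : Matrix C.J C.J ℚ} (hX : IsWt C.wt β X) :
    IsWt C.wt (w β) ((DP.mapZ ℚ g).val * X * ((DP.mapZ ℚ g)⁻¹ : (Matrix C.J C.J ℚ)ˣ).val) :=
  isWt_conj h.wtQ h.wtQ_inv hX

omit [IsAddTorsionFree M] in
lemma IsLift.conjQ_inv {β : M} {X : Matrix C.J C.J ℚ} (hX : IsWt C.wt β X) :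
    IsWt C.wt (w.symm β) (((DP.mapZ ℚ g)⁻¹ : (Matrix C.J C.J ℚ)ˣ).val * X * (DP.mapZ ℚ g).val) :=
  isWt_conj (w := w.symm) h.wtQ_inv (fun j k hjk => by
    rw [LinearEquiv.symm_symm]; exact h.wtQ j k hjk) hX

end

end Groth.Agent.RedSub.H507.Lift
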