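import Mathlib.RingTheory.Nilpotent.Exp
import Mathlib.Algebra.Algebra.Bilinear
import Mathlib.Algebra.Lie.OfAssociative
import Mathlib.Tactic.NoncommRing
import Mathlib.Tactic.Module
import Mathlib.Tactic.Abel

/-!
# Exponentials of nilpotent elements and the Weyl element of an `sl₂`-triple
-/

set_option autoImplicit false

namespace Groth.Agent.RedSub.H507.Sl2

open IsNilpotent

variable {A : Type*} [Ring A] [Algebra ℚ A]

/-- `x ↦ a x - x a` -/
noncomputable def adL (a : A) : Module.End ℚ A := LinearMap.mulLeft ℚ a - LinearMap.mulRight ℚ a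

lemma adL_apply (a x : A) : adL a x = a * x - x * a := rfl

lemma isNilpotent_mulLeft {a : A} (ha : IsNilpotent a) : IsNilpotent (LinearMap.mulLeft ℚ a) := by
  obtain ⟨n, hn⟩ := ha
  exact ⟨n, by rw [LinearMap.pow_mulLeft, hn]; ext; simp⟩

lemma isNilpotent_mulRight {a : A} (ha : IsNilpotent a) : IsNilpotent (LinearMap.mulRight ℚ a) := by
  obtain ⟨n, hn⟩ := ha
  exact ⟨n, by rw [LinearMap.pow_mulRight, hn]; ext; simp⟩

lemma isNilpotent_adL {a : A} (ha : IsNilpotent a) : IsNilpotent (adL a) :=
  (LinearMap.commute_mulLeft_right (R := ℚ) a a).isNilpotent_sub (isNilpotent_mulLeft ha)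
    (isNilpotent_mulRight ha)

lemma exp_mulLeft {a : A} (ha : IsNilpotent a) (x : A) :
    exp (LinearMap.mulLeft ℚ a) x = exp a * x := by
  obtain ⟨n, hn⟩ := ha
  have h1 : (LinearMap.mulLeft ℚ a) ^ n = 0 := by rw [LinearMap.pow_mulLeft, hn]; ext; simp
  rw [exp_eq_sum h1, exp_eq_sum hn, LinearMap.sum_apply, Finset.sum_mul]
  refine Finset.sum_congr rfl fun i _ => ?_
  rw [LinearMap.smul_apply, LinearMap.pow_mulLeft, LinearMap.mulLeft_apply, smul_mul_assoc]

lemma exp_mulRight {a : A} (ha : IsNilpotent a) (x : A) :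
    exp (LinearMap.mulRight ℚ a) x = x * exp a := by
  obtain ⟨n, hn⟩ := ha
  have h1 : (LinearMap.mulRight ℚ a) ^ n = 0 := by rw [LinearMap.pow_mulRight, hn]; ext; simp
  rw [exp_eq_sum h1, exp_eq_sum hn, LinearMap.sum_apply, Finset.mul_sum]
  refine Finset.sum_congr rfl fun i _ => ?_
  rw [LinearMap.smul_apply, LinearMap.pow_mulRight, LinearMap.mulRight_apply, mul_smul_comm]

/-- Conjugation by `exp a` is `exp (ad a)`. -/
theorem conj_exp {a : A} (ha : IsNilpotent a) (x : A) :
    exp a * x * exp (-a) = exp (adL a) x := by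
  have h1 : adL a = LinearMap.mulLeft ℚ a + LinearMap.mulRight ℚ (-a) := by
    ext y; simp [adL_apply, sub_eq_add_neg]
  rw [h1, exp_add_of_commute (LinearMap.commute_mulLeft_right (R := ℚ) a (-a)) (isNilpotent_mulLeft ha)
    (isNilpotent_mulRight ha.neg), Module.End.mul_apply, exp_mulRight ha.neg, exp_mulLeft ha, mul_assoc]

/-- A subspace stable under `ad a` is stable under conjugation by `exp a`. -/
theorem conj_exp_mem {a : A} (ha : IsNilpotent a) (L : Submodule ℚ A)
    (hL : ∀ x ∈ L, a * x - x * a ∈ L) {x : A} (hx : x ∈ L) : exp a * x * exp (-a) ∈ L := by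
  rw [conj_exp ha]
  obtain ⟨n, hn⟩ := isNilpotent_adL ha
  have hpow : ∀ i : ℕ, ((adL a) ^ i) x ∈ L := by
    intro i
    induction i with
    | zero => simpa using hx
    | succ i ih =>
      rw [pow_succ', Module.End.mul_apply]
      exact hL _ ih
  rw [exp_eq_sum hn, LinearMap.sum_apply]
  refine Submodule.sum_mem _ fun i _ => ?_
  rw [LinearMap.smul_apply]
  exact L.smul_mem _ (hpow i)

theorem conj_exp_one {a : A} (ha : IsNilpotent a) {x y : A} (h1 : a * x - x * a = y)
    (h2 : a * y - y * a = 0) : exp a * x * exp (-a) = x + y := by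
  rw [conj_exp ha]
  have h3 : ((adL a) ^ 2) • x = 0 := by
    rw [pow_two]
    change adL a (adL a x) = 0
    rw [adL_apply, adL_apply, h1, h2]
  have := exp_smul_eq_sum h3 (isNilpotent_adL ha)
  change exp (adL a) x = _ at this
  rw [this]
  simp [Finset.sum_range_succ, adL_apply, h1]

theorem conj_exp_two {a : A} (ha : IsNilpotent a) {x y z : A} (h1 : a * x - x * a = y)
    (h2 : a * y - y * a = z) (h3 : a * z - z * a = 0) :
    exp a * x * exp (-a) = x + y + (2 : ℚ)⁻¹ • z := by
  rw [conj_exp ha]
  have h4 : ((adL a) ^ 3) • x = 0 := by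
    rw [_root_.pow_succ, pow_two]
    change adL a (adL a (adL a x)) = 0
    rw [adL_apply, adL_apply, adL_apply, h1, h2, h3]
  have := exp_smul_eq_sum h4 (isNilpotent_adL ha)
  change exp (adL a) x = _ at this
  rw [this]
  have h5 : (adL a ^ 2) x = z := by
    rw [pow_two]
    change adL a (adL a x) = z
    rw [adL_apply, adL_apply, h1, h2]
  simp [Finset.sum_range_succ, adL_apply, h1, h5]

/-- the Weyl element of an `sl₂`-triple -/
noncomputable def weyl (E F : A) : A := exp E * exp (-F) * exp E

/-- the inverse of the Weyl element -/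
noncomputable def weylInv (E F : A) : A := exp (-E) * exp F * exp (-E)

section

variable {E F H : A} (hE : IsNilpotent E) (hF : IsNilpotent F)

include hE hF in
lemma weyl_mul_weylInv : weyl E F * weylInv E F = 1 := by
  have h1 := exp_mul_exp_neg_self hE
  have h2 := exp_neg_mul_exp_self hF
  calc weyl E F * weylInv E F = exp E * exp (-F) * (exp E * exp (-E)) * exp F * exp (-E) := by
        simp only [weyl, weylInv, mul_assoc]
    _ = 1 := by rw [h1, mul_one, mul_assoc (exp E), h2, mul_one, h1]

include hE hF in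
lemma weylInv_mul_weyl : weylInv E F * weyl E F = 1 := by
  have h1 := exp_neg_mul_exp_self hE
  have h2 := exp_mul_exp_neg_self hF
  calc weylInv E F * weyl E F = exp (-E) * exp F * (exp (-E) * exp E) * exp (-F) * exp E := by
        simp only [weyl, weylInv, mul_assoc]
    _ = 1 := by rw [h1, mul_one, mul_assoc (exp (-E)), h2, mul_one, h1]

variable (hEF : E * F - F * E = H) (hHE : H * E - E * H = (2 : ℚ) • E)
  (hHF : H * F - F * H = -((2 : ℚ) • F))

include hE hF hEF hHE hHF in
/-- The Weyl element acts on the torus by the reflection. -/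
theorem weylInv_conj {h : A} {c : ℚ} (h1 : h * E - E * h = c • E) (h2 : h * F - F * h = -(c • F)) :
    weylInv E F * h * weyl E F = h - c • H := by
  -- first conjugation
  have s1 : exp (-E) * h * exp E = h + c • E := by
    have := conj_exp_one (a := -E) hE.neg (x := h) (y := c • E) (by rw [← h1]; noncomm_ring)
      (by simp)
    rwa [neg_neg] at this
  have s2 : exp F * h * exp (-F) = h + c • F := by
    refine conj_exp_one hF (x := h) (y := c • F) ?_ (by simp)
    rw [← neg_sub, h2, neg_neg]
  have s3 : exp F * E * exp (-F) = E - H - F := by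
    have := conj_exp_two hF (x := E) (y := -H) (z := -((2 : ℚ) • F)) (by rw [← hEF]; noncomm_ring)
      (by rw [← hHF]; noncomm_ring) (by simp)
    rw [this, smul_neg, smul_smul]
    norm_num
    abel
  have s4 : exp (-E) * H * exp E = H + (2 : ℚ) • E := by
    have := conj_exp_one (a := -E) hE.neg (x := H) (y := (2 : ℚ) • E) (by rw [← hHE]; noncomm_ring)
      (by simp)
    rwa [neg_neg] at this
  have s5 : exp (-E) * E * exp E = E := by
    have := conj_exp_one (a := -E) hE.neg (x := E) (y := 0) (by simp) (by simp)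
    rwa [neg_neg, add_zero] at this
  calc weylInv E F * h * weyl E F
      = exp (-E) * (exp F * (exp (-E) * h * exp E) * exp (-F)) * exp E := by
        simp only [weyl, weylInv, mul_assoc]
    _ = exp (-E) * (exp F * (h + c • E) * exp (-F)) * exp E := by rw [s1]
    _ = exp (-E) * (exp F * h * exp (-F) + c • (exp F * E * exp (-F))) * exp E := by
        congr 2
        rw [mul_add, add_mul, mul_smul_comm, smul_mul_assoc]
    _ = exp (-E) * (h + c • E - c • H) * exp E := by
        rw [s2, s3]
        congr 2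
        module
    _ = exp (-E) * h * exp E + c • (exp (-E) * E * exp E) - c • (exp (-E) * H * exp E) := by
        rw [mul_sub, mul_add, sub_mul, add_mul, mul_smul_comm, smul_mul_assoc, mul_smul_comm,
          smul_mul_assoc]
    _ = h - c • H := by
        rw [s1, s4, s5]
        module

include hE hF hEF hHE hHF in
theorem mul_weyl {h : A} {c : ℚ} (h1 : h * E - E * h = c • E) (h2 : h * F - F * h = -(c • F)) :
    h * weyl E F = weyl E F * (h - c • H) := by
  rw [← weylInv_conj hE hF hEF hHE hHF h1 h2, ← mul_assoc, ← mul_assoc, weyl_mul_weylInv hE hF,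
    one_mul]

end

end Groth.Agent.RedSub.H507.Sl2
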