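import Groth.Agent.RedSub.H507.Supp
import Groth.Agent.RedSub.H507.Cone
import Groth.Agent.RedSub.H507.DP
import Groth.Agent.RedSub.H507.Sl2
import Groth.Agent.RedSub.H630.ChevDefs
import Mathlib.LinearAlgebra.Dual.Lemmas

/-!
# The Lie algebra over `ℚ` generated by Chevalley matrices

`L C`: the Lie algebra spanned by `h`, `e i`, `f i`; its weights.
-/

set_option autoImplicit false

open Groth.Agent.RedSub.H630.ChevDefs (ChevMat)

namespace Groth.Agent.RedSub.H507.RootLie

open Grade LieClos Supp Cone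

variable {idx M : Type} [AddCommGroup M] {P : RootPairing idx ℤ M (Module.Dual ℤ M)} {b : P.Base}
  (C : ChevMat P b)

/-- rational positive simple root matrices -/
def e (i : b.support) : Matrix C.J C.J ℚ := (C.e i).map (Int.castRingHom ℚ)

/-- rational negative simple root matrices -/
def f (i : b.support) : Matrix C.J C.J ℚ := (C.f i).map (Int.castRingHom ℚ)

/-- diagonal matrix of a cocharacter -/
def tor (l : Module.Dual ℤ M) : Matrix C.J C.J ℚ := Matrix.diagonal fun j => ((l (C.wt j) : ℤ) : ℚ)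

/-- the Cartan subalgebra -/
def t : Submodule ℚ (Matrix C.J C.J ℚ) := Submodule.span ℚ (Set.range (tor C))

/-- the Lie algebra -/
def L : Submodule ℚ (Matrix C.J C.J ℚ) :=
  lieClos ((t C : Set (Matrix C.J C.J ℚ)) ∪ (Set.range (e C) ∪ Set.range (f C)))

variable {C}

lemma e_wt (i : b.support) : IsWt C.wt (P.root i) (e C i) := IsWt.map _ (C.e_wt i)

lemma f_wt (i : b.support) : IsWt C.wt (-P.root i) (f C i) := IsWt.map _ (C.f_wt i)

lemma tor_wt (l : Module.Dual ℤ M) : IsWt C.wt 0 (tor C l) := IsWt.diagonal _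

lemma t_wt {X : Matrix C.J C.J ℚ} (hX : X ∈ t C) : IsWt C.wt 0 X := by
  refine Submodule.span_induction ?_ IsWt.zero (fun x y _ _ h1 h2 => h1.add h2)
    (fun c x _ h => h.smul c) hX
  rintro _ ⟨l, rfl⟩
  exact tor_wt l

lemma t_diag {X : Matrix C.J C.J ℚ} (hX : X ∈ t C) {j k : C.J} (hjk : j ≠ k) : X j k = 0 := by
  refine Submodule.span_induction (p := fun X _ => X j k = 0) ?_ rfl
    (fun x y _ _ h1 h2 => ?_) (fun c x _ h => ?_) hX
  · rintro _ ⟨l, rfl⟩
    exact Matrix.diagonal_apply_ne _ hjk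
  · rw [Matrix.add_apply, h1, h2, add_zero]
  · rw [Matrix.smul_apply, h, smul_zero]

lemma tor_br {β : M} {X : Matrix C.J C.J ℚ} (hX : IsWt C.wt β X) (l : Module.Dual ℤ M) :
    br (tor C l) X = ((l β : ℤ) : ℚ) • X := by
  ext j k
  simp only [br, Matrix.sub_apply, tor, Matrix.diagonal_mul, Matrix.mul_diagonal, Matrix.smul_apply,
    smul_eq_mul]
  by_cases h : X j k = 0
  · rw [h]; ring
  · rw [hX j k h, map_add]
    push_cast
    ring

lemma tor_mem (l : Module.Dual ℤ M) : tor C l ∈ t C := Submodule.subset_span ⟨l, rfl⟩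

lemma t_br {β : M} {X Y : Matrix C.J C.J ℚ} (hY : Y ∈ t C) (hX : IsWt C.wt β X) :
    ∃ c : ℚ, br Y X = c • X := by
  refine Submodule.span_induction (p := fun Y _ => ∃ c : ℚ, br Y X = c • X) ?_ ⟨0, ?_⟩
    (fun x y _ _ h1 h2 => ?_) (fun c x _ h => ?_) hY
  · rintro _ ⟨l, rfl⟩
    exact ⟨_, tor_br hX l⟩
  · rw [zero_br, zero_smul]
  · obtain ⟨c1, h1⟩ := h1
    obtain ⟨c2, h2⟩ := h2
    exact ⟨c1 + c2, by rw [add_br, h1, h2, add_smul]⟩
  · obtain ⟨c1, h1⟩ := h
    exact ⟨c * c1, by rw [smul_br, h1, smul_smul]⟩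

lemma t_br_t {X Y : Matrix C.J C.J ℚ} (hX : X ∈ t C) (hY : Y ∈ t C) : br X Y = 0 := by
  refine Submodule.span_induction (p := fun X _ => br X Y = 0) ?_ (zero_br _)
    (fun x y _ _ h1 h2 => ?_) (fun c x _ h => ?_) hX
  · rintro _ ⟨l, rfl⟩
    rw [tor_br (t_wt hY) l, map_zero]
    simp
  · rw [add_br, h1, h2, add_zero]
  · rw [smul_br, h, smul_zero]

lemma br_e_f_same (i : b.support) : br (e C i) (f C i) = tor C (P.coroot' i) := by
  have h1 := congrArg (fun X : Matrix C.J C.J ℤ => X.map (Int.castRingHom ℚ)) (C.lie_same i)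
  simp only [Matrix.map_sub _ (map_sub (Int.castRingHom ℚ)), Matrix.map_mul] at h1
  rw [br, e, f, h1, tor]
  ext j k
  by_cases hjk : j = k
  · subst hjk
    simp
  · simp [Matrix.diagonal_apply_ne _ hjk]

lemma br_e_f_ne {i j : b.support} (hij : i ≠ j) : br (e C i) (f C j) = 0 := by
  have h1 := congrArg (fun X : Matrix C.J C.J ℤ => X.map (Int.castRingHom ℚ)) (C.lie_ne i j hij)
  simp only [Matrix.map_mul] at h1
  rw [br, e, f, h1, sub_self]

lemma br_e_f_mem (i j : b.support) : br (e C i) (f C j) ∈ t C := by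
  by_cases hij : i = j
  · subst hij
    rw [br_e_f_same]
    exact tor_mem _
  · rw [br_e_f_ne hij]
    exact Submodule.zero_mem _

lemma t_le : t C ≤ L C := fun _ hX => subset_lieClos (Or.inl hX)

lemma e_mem (i : b.support) : e C i ∈ L C := subset_lieClos (Or.inr (Or.inl ⟨i, rfl⟩))

lemma f_mem (i : b.support) : f C i ∈ L C := subset_lieClos (Or.inr (Or.inr ⟨i, rfl⟩))

lemma L_le : L C ≤ lieClos (Set.range (f C)) ⊔ t C ⊔ lieClos (Set.range (e C)) :=
  triang (fun _ hx _ hy => t_br_t hx hy) (fun _ hx i => t_br hx (e_wt i))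
    (fun _ hx i => t_br hx (f_wt i)) br_e_f_mem

/-- the part generated by the `e i` -/
lemma lieClos_e_le (i : b.support) : lieClos (Set.range (e C)) ≤
    Submodule.span ℚ {e C i} ⊔ supp C.wt (cone b {i}ᶜ) := by
  apply lieClos_le
  · rintro _ ⟨j, rfl⟩
    by_cases hij : j = i
    · subst hij
      exact Submodule.mem_sup_left (Submodule.mem_span_singleton_self _)
    · exact Submodule.mem_sup_right (mem_supp_of_isWt (e_wt j) (root_mem_cone hij))
  · have huniv : cone b {i}ᶜ ⊆ cone b Set.univ := cone_mono (Set.subset_univ _)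
    have h1 : ∀ y ∈ supp C.wt (cone b {i}ᶜ), br (e C i) y ∈ supp C.wt (cone b {i}ᶜ) := by
      intro y hy
      refine br_mem_supp (D := cone b Set.univ) (fun x hx y hy => ?_)
        (mem_supp_of_isWt (e_wt i) (root_mem_cone (Set.mem_univ _))) hy
      rw [add_comm]
      exact add_mem_cone hy hx
    intro x y hx hy
    obtain ⟨x1, hx1, x2, hx2, rfl⟩ := Submodule.mem_sup.1 hx
    obtain ⟨y1, hy1, y2, hy2, rfl⟩ := Submodule.mem_sup.1 hy
    obtain ⟨c, rfl⟩ := Submodule.mem_span_singleton.1 hx1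
    obtain ⟨d, rfl⟩ := Submodule.mem_span_singleton.1 hy1
    refine Submodule.mem_sup_right ?_
    rw [add_br, br_add, br_add, smul_br, br_smul, br_self, smul_zero, smul_zero, zero_add,
      smul_br, br_smul]
    refine Submodule.add_mem _ (Submodule.smul_mem _ _ (h1 _ hy2)) (Submodule.add_mem _ ?_ ?_)
    · rw [← br_neg]
      exact Submodule.smul_mem _ _ (Submodule.neg_mem _ (h1 _ hx2))
    · exact br_mem_supp (fun x hx y hy => add_mem_cone hx (huniv hy)) hx2 hy2

/-- the part generated by the `f i` -/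
lemma lieClos_f_le (i : b.support) : lieClos (Set.range (f C)) ≤
    Submodule.span ℚ {f C i} ⊔ supp C.wt {m | -m ∈ cone b {i}ᶜ} := by
  apply lieClos_le
  · rintro _ ⟨j, rfl⟩
    by_cases hij : j = i
    · subst hij
      exact Submodule.mem_sup_left (Submodule.mem_span_singleton_self _)
    · refine Submodule.mem_sup_right (mem_supp_of_isWt (f_wt j) ?_)
      rw [Set.mem_setOf_eq, neg_neg]
      exact root_mem_cone hij
  · have huniv : cone b {i}ᶜ ⊆ cone b Set.univ := cone_mono (Set.subset_univ _)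
    have h1 : ∀ y ∈ supp C.wt {m | -m ∈ cone b {i}ᶜ}, br (f C i) y ∈ supp C.wt {m | -m ∈ cone b {i}ᶜ} := by
      intro y hy
      refine br_mem_supp (D := {m | -m ∈ cone b Set.univ}) (fun x hx y hy => ?_)
        (mem_supp_of_isWt (f_wt i) ?_) hy
      · rw [Set.mem_setOf_eq]
        rw [neg_add_rev]
        exact add_mem_cone hy hx
      · rw [Set.mem_setOf_eq]
        rw [neg_neg]
        exact root_mem_cone (Set.mem_univ _)
    intro x y hx hy
    obtain ⟨x1, hx1, x2, hx2, rfl⟩ := Submodule.mem_sup.1 hx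
    obtain ⟨y1, hy1, y2, hy2, rfl⟩ := Submodule.mem_sup.1 hy
    obtain ⟨c, rfl⟩ := Submodule.mem_span_singleton.1 hx1
    obtain ⟨d, rfl⟩ := Submodule.mem_span_singleton.1 hy1
    refine Submodule.mem_sup_right ?_
    rw [add_br, br_add, br_add, smul_br, br_smul, br_self, smul_zero, smul_zero, zero_add,
      smul_br, br_smul]
    refine Submodule.add_mem _ (Submodule.smul_mem _ _ (h1 _ hy2)) (Submodule.add_mem _ ?_ ?_)
    · rw [← br_neg]
      exact Submodule.smul_mem _ _ (Submodule.neg_mem _ (h1 _ hx2))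
    · refine br_mem_supp (fun x hx y hy => ?_) hx2 hy2
      rw [Set.mem_setOf_eq]
      rw [neg_add_rev]
      exact add_mem_cone hy (huniv hx)

lemma lieClos_e_le' : lieClos (Set.range (e C)) ≤ supp C.wt (cone b Set.univ) := by
  apply lieClos_le
  · rintro _ ⟨j, rfl⟩
    exact mem_supp_of_isWt (e_wt j) (root_mem_cone (Set.mem_univ _))
  · intro x y hx hy
    exact br_mem_supp (fun x hx y hy => add_mem_cone hx hy) hx hy

lemma lieClos_f_le' : lieClos (Set.range (f C)) ≤ supp C.wt {m | -m ∈ cone b Set.univ} := by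
  apply lieClos_le
  · rintro _ ⟨j, rfl⟩
    refine mem_supp_of_isWt (f_wt j) ?_
    rw [Set.mem_setOf_eq]
    rw [neg_neg]
    exact root_mem_cone (Set.mem_univ _)
  · intro x y hx hy
    refine br_mem_supp (fun x hx y hy => ?_) hx hy
    rw [Set.mem_setOf_eq]
    rw [neg_add_rev]
    exact add_mem_cone hy hx

/-- The weights of `L` are zero, positive or negative combinations of simple roots. -/
theorem wt_cases {β : M} {X : Matrix C.J C.J ℚ} (hX : X ∈ L C) (hβ : IsWt C.wt β X) (h0 : X ≠ 0) :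
    β = 0 ∨ β ∈ cone b Set.univ ∨ -β ∈ cone b Set.univ := by
  obtain ⟨j, k, hjk⟩ : ∃ j k, X j k ≠ 0 := by
    by_contra! h
    exact h0 (by ext j k; exact h j k)
  obtain ⟨y', hy', y3, h3, rfl⟩ := Submodule.mem_sup.1 (L_le hX)
  obtain ⟨y1, h1, y2, h2, rfl⟩ := Submodule.mem_sup.1 hy'
  have hw : C.wt j - C.wt k = β := by rw [hβ j k hjk]; abel
  by_cases hj1 : y1 j k = 0
  · by_cases hj2 : y2 j k = 0
    · have hj3 : y3 j k ≠ 0 := by
        intro hj3
        rw [Matrix.add_apply, Matrix.add_apply, hj1, hj2, hj3] at hjk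
        simp at hjk
      right; left
      rw [← hw]
      exact lieClos_e_le' h3 j k hj3
    · left
      rw [← hw]
      by_cases hjk' : j = k
      · rw [hjk', sub_self]
      · exact absurd (t_diag h2 hjk') hj2
  · right; right
    rw [← hw]
    exact lieClos_f_le' h1 j k hj1

/-- An element of weight a nonzero multiple of a simple root is a multiple of `e i` or `f i`. -/
theorem wt_simple [IsAddTorsionFree M] {i : b.support} {c : ℤ} (hc : c ≠ 0) {X : Matrix C.J C.J ℚ}
    (hX : X ∈ L C) (hβ : IsWt C.wt (c • P.root i) X) (h0 : X ≠ 0) :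
    (c = 1 ∧ ∃ q : ℚ, X = q • e C i) ∨ (c = -1 ∧ ∃ q : ℚ, X = q • f C i) := by
  classical
  have hroot : P.root i ≠ 0 := P.ne_zero _
  have hcancel : ∀ z : ℤ, z ≠ 0 → z • P.root i ≠ 0 := fun z hz h =>
    hroot ((smul_eq_zero_iff_right hz).1 h)
  obtain ⟨y', hy', y3, h3, hsum⟩ := Submodule.mem_sup.1 (L_le hX)
  obtain ⟨y1, h1, y2, h2, rfl⟩ := Submodule.mem_sup.1 hy'
  obtain ⟨z1, hz1, w1, hw1, rfl⟩ := Submodule.mem_sup.1 (lieClos_f_le i h1)
  obtain ⟨z3, hz3, w3, hw3, rfl⟩ := Submodule.mem_sup.1 (lieClos_e_le i h3)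
  obtain ⟨a, rfl⟩ := Submodule.mem_span_singleton.1 hz1
  obtain ⟨d, rfl⟩ := Submodule.mem_span_singleton.1 hz3
  have hp := congrArg (projL ℚ C.wt (c • P.root i)) hsum
  simp only [map_add, map_smul, projL_apply] at hp
  rw [proj_of_isWt hβ, proj_of_isWt_ne (t_wt h2) (hcancel c hc).symm,
    proj_eq_zero_of_supp hw3 (smul_root_notMem c i), proj_eq_zero_of_supp hw1 (by
      change ¬ (-(c • P.root i) ∈ cone b {i}ᶜ)
      rw [← neg_smul]
      exact smul_root_notMem (-c) i)] at hp
  simp only [add_zero] at hp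
  have hinj : ∀ z z' : ℤ, z • P.root i = z' • P.root i → z = z' := by
    intro z z' h
    by_contra hne
    exact hcancel (z - z') (sub_ne_zero.2 hne) (by rw [sub_smul, h, sub_self])
  by_cases h1 : c = 1
  · left
    refine ⟨h1, d, ?_⟩
    subst h1
    rw [one_smul] at hp
    have hne : -P.root i ≠ P.root i := by
      intro h
      have := hinj (-1) 1 (by rw [neg_smul, one_smul]; exact h)
      omega
    rw [proj_of_isWt_ne (f_wt i) hne, proj_of_isWt (e_wt i), smul_zero, zero_add] at hp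
    exact hp.symm
  · by_cases h2 : c = -1
    · right
      refine ⟨h2, a, ?_⟩
      subst h2
      rw [neg_smul, one_smul] at hp
      have hne : P.root i ≠ -P.root i := by
        intro h
        have := hinj 1 (-1) (by rw [neg_smul, one_smul]; exact h)
        omega
      rw [proj_of_isWt_ne (e_wt i) hne, proj_of_isWt (f_wt i), smul_zero, add_zero] at hp
      exact hp.symm
    · exfalso
      have hne1 : P.root i ≠ c • P.root i := by
        intro h
        exact h1 (hinj 1 c (by rw [one_smul]; exact h)).symm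
      have hne2 : -P.root i ≠ c • P.root i := by
        intro h
        exact h2 (hinj (-1) c (by rw [neg_smul, one_smul]; exact h)).symm
      rw [proj_of_isWt_ne (e_wt i) hne1, proj_of_isWt_ne (f_wt i) hne2] at hp
      simp at hp
      exact h0 hp.symm

end Groth.Agent.RedSub.H507.RootLie
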