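import Groth.Agent.RedSub.H507.Grade
import Groth.Agent.RedSub.H507.LieClos
import Mathlib.LinearAlgebra.Span.Basic
import Mathlib.Algebra.Module.Submodule.Lattice
import Mathlib.Data.Matrix.Mul
import Mathlib.Algebra.Algebra.Rat
import Mathlib.Algebra.Group.Torsion
import Mathlib.Data.Set.Finite.Basic
import Mathlib.RingTheory.Nilpotent.Basic
import Mathlib.Data.Matrix.Basic

/-!
# Matrices supported on a set of weights; nilpotency
-/

set_option autoImplicit false

namespace Groth.Agent.RedSub.H507.Supp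

open Grade LieClos

variable {κ M : Type*} [AddCommGroup M] (wt : κ → M)

/-- rational matrices all of whose entries have weight in `D` -/
def supp (D : Set M) : Submodule ℚ (Matrix κ κ ℚ) where
  carrier := {X | ∀ k l, X k l ≠ 0 → wt k - wt l ∈ D}
  add_mem' {X Y} hX hY k l h := by
    by_cases h1 : X k l = 0
    · refine hY k l fun h2 => h ?_
      rw [Matrix.add_apply, h1, h2, add_zero]
    · exact hX k l h1
  zero_mem' k l h := absurd rfl h
  smul_mem' c X hX k l h := by
    refine hX k l fun h1 => h ?_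
    rw [Matrix.smul_apply, h1, smul_zero]

variable {wt} {D D' D'' : Set M} {X Y : Matrix κ κ ℚ} {β : M}

lemma mem_supp : X ∈ supp wt D ↔ ∀ k l, X k l ≠ 0 → wt k - wt l ∈ D := Iff.rfl

lemma mul_mem_supp [Fintype κ] (h : ∀ x ∈ D, ∀ y ∈ D', x + y ∈ D'') (hX : X ∈ supp wt D)
    (hY : Y ∈ supp wt D') : X * Y ∈ supp wt D'' := by
  intro k l hkl
  rw [Matrix.mul_apply] at hkl
  obtain ⟨m, -, hm⟩ := Finset.exists_ne_zero_of_sum_ne_zero hkl
  have := h _ (hX k m (left_ne_zero_of_mul hm)) _ (hY m l (right_ne_zero_of_mul hm))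
  simpa using this

lemma br_mem_supp [Fintype κ] [DecidableEq κ] (h : ∀ x ∈ D, ∀ y ∈ D', x + y ∈ D'') (hX : X ∈ supp wt D)
    (hY : Y ∈ supp wt D') : br X Y ∈ supp wt D'' := by
  refine Submodule.sub_mem _ (mul_mem_supp h hX hY) (mul_mem_supp ?_ hY hX)
  intro x hx y hy
  rw [add_comm]
  exact h y hy x hx

lemma mem_supp_of_isWt (hX : IsWt wt β X) (h : β ∈ D) : X ∈ supp wt D := by
  intro k l hkl
  rw [hX k l hkl]
  simpa using h

lemma supp_mono (h : D ⊆ D') : supp wt D ≤ supp wt D' := fun X hX k l hkl => h (hX k l hkl)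

lemma proj_eq_zero_of_supp [DecidableEq M] (hX : X ∈ supp wt D) (h : β ∉ D) :
    proj wt β X = 0 := by
  ext k l
  rw [proj_apply]
  split_ifs with h1
  · by_contra h2
    have := hX k l h2
    rw [h1] at this
    exact h (by simpa using this)
  · rfl

lemma isNilpotent_of_isWt {R : Type*} [CommRing R] [Fintype κ] [DecidableEq κ]
    [IsAddTorsionFree M] {A : Matrix κ κ R} (hA : IsWt wt β A)
    (hβ : β ≠ 0) : IsNilpotent A := by
  have h1 : (Set.range fun p : κ × κ => wt p.1 - wt p.2).Finite := Set.finite_range _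
  have h2 : Function.Injective fun n : ℕ => n • β := fun m n h => by
    have h' : m • β = n • β := h
    by_contra hmn
    rcases lt_or_gt_of_ne hmn with hlt | hlt
    · obtain ⟨d, rfl⟩ := Nat.exists_eq_add_of_lt hlt
      rw [add_assoc, add_smul, left_eq_add] at h'
      exact hβ ((smul_eq_zero_iff_right (by omega : d + 1 ≠ 0)).1 h')
    · obtain ⟨d, rfl⟩ := Nat.exists_eq_add_of_lt hlt
      rw [add_assoc, add_smul, add_eq_left] at h'
      exact hβ ((smul_eq_zero_iff_right (by omega : d + 1 ≠ 0)).1 h')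
  obtain ⟨n, hn⟩ : ∃ n : ℕ, n • β ∉ Set.range fun p : κ × κ => wt p.1 - wt p.2 := by
    by_contra h
    push Not at h
    exact Set.infinite_range_of_injective h2 (h1.subset (by rintro _ ⟨n, rfl⟩; exact h n))
  refine ⟨n, ?_⟩
  ext k l
  by_contra h
  refine hn ⟨(k, l), ?_⟩
  have := (hA.pow n) k l h
  change wt k - wt l = n • β
  rw [this, add_sub_cancel_left]

end Groth.Agent.RedSub.H507.Supp
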