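import Groth.Agent.RedSub.H507.Lift

/-!
# The nonzero weights of the Lie algebra are roots, with multiplicity one
-/

set_option autoImplicit false

open Groth.Agent.RedSub.H630.ChevDefs (ChevMat)

namespace Groth.Agent.RedSub.H507.WtRoot

open Grade LieClos Supp Cone RootLie DP Lift

variable {idx M : Type} [AddCommGroup M] {P : RootPairing idx ℤ M (Module.Dual ℤ M)} {b : P.Base}
  {C : ChevMat P b}

lemma conj_ne_zero {J : Type} [Fintype J] [DecidableEq J] {R : Type*} [CommRing R]
    {X : Matrix J J R} (g : (Matrix J J R)ˣ) (hX : X ≠ 0) : g.val * X * (g⁻¹).val ≠ 0 := by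
  intro h
  apply hX
  have : (g⁻¹).val * (g.val * X * (g⁻¹).val) * g.val = X := by
    rw [mul_assoc, mul_assoc, mul_assoc, Units.inv_mul, mul_one, ← mul_assoc, Units.inv_mul, one_mul]
  rw [← this, h, mul_zero, zero_mul]

theorem wt_mem_range_aux [Finite idx] [IsAddTorsionFree M] [Module.Free ℤ M]
    (n : ℕ) : ∀ c : b.support → ℤ, (∀ i, 0 ≤ c i) → (∃ i, 0 < c i) → ∑ i, c i = n →
    ∀ ε : ℤ, (ε = 1 ∨ ε = -1) → ∀ X ∈ L C, IsWt C.wt (ε • ∑ i, c i • P.root i) X → X ≠ 0 →
      ε • ∑ i, c i • P.root i ∈ Set.range P.root := by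
  classical
  induction n using Nat.strong_induction_on with
  | _ n ih =>
  intro c hc hpos hsum ε hε X hX hwt hX0
  have hεne : ε ≠ 0 := by rcases hε with rfl | rfl <;> norm_num
  obtain ⟨j, hj, hjpos⟩ := exists_pos (P := P) (b := b) hc hpos
  set β := ∑ i, c i • P.root i with hβ
  by_cases hex : ∃ i, i ≠ j ∧ 0 < c i
  · obtain ⟨i, hij, hi⟩ := hex
    set p := P.coroot' j β with hp
    -- the reflected weight
    let c' : b.support → ℤ := fun k => c k - if k = j then p else 0
    have hβ' : P.reflection j β = ∑ k, c' k • P.root k := by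
      rw [P.reflection_apply, ← hp]
      simp only [c', sub_smul, Finset.sum_sub_distrib, ite_smul, zero_smul, Finset.sum_ite_eq',
        Finset.mem_univ, if_true]
      rw [← hβ]
    have hl := isLift_nI (C := C) j
    set X' := (DP.mapZ ℚ (nI C j)).val * X * ((DP.mapZ ℚ (nI C j))⁻¹ : (Matrix C.J C.J ℚ)ˣ).val with hX'
    have hX'mem : X' ∈ L C := hl.mem X hX
    have hX'wt : IsWt C.wt (ε • ∑ k, c' k • P.root k) X' := by
      have := hl.conjQ hwt
      rw [map_zsmul, hβ'] at this
      exact this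
    have hX'0 : X' ≠ 0 := conj_ne_zero _ hX0
    have hc'i : c' i = c i := by simp [c', hij]
    have hc' : ∀ k, 0 ≤ c' k := by
      have hcases := wt_cases hX'mem hX'wt hX'0
      -- it suffices to see that the sum is in the cone
      have key : ∀ δ : ℤ, δ = 1 ∨ δ = -1 → (δ • ∑ k, c' k • P.root k) ∈ cone b Set.univ →
          ∀ k, 0 ≤ c' k := by
        rintro δ hδ ⟨g, hg, -, h⟩
        have h1 : ∑ k, (δ * c' k) • P.root k = ∑ k, g k • P.root k := by
          rw [← h, Finset.smul_sum]
          exact Finset.sum_congr rfl fun k _ => by rw [mul_smul]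
        have h2 := eq_of_sum_eq (P := P) (b := b) (f := fun k => δ * c' k) (g := g) h1
        have h3 : ∀ k, δ * c' k = g k := fun k => congrFun h2 k
        rcases hδ with rfl | rfl
        · intro k
          have := h3 k
          rw [one_mul] at this
          rw [this]
          exact hg k
        · exfalso
          have := h3 i
          have h4 := hg i
          rw [hc'i] at this
          omega
      rcases hcases with h | h | h
      · exfalso
        have h1 : ∑ k, c' k • P.root k = 0 := (smul_eq_zero_iff_right hεne).1 h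
        have h2 := eq_of_sum_eq (P := P) (b := b) (f := c') (g := 0) (by rw [h1]; simp)
        have h3 := congrFun h2 i
        rw [hc'i] at h3
        simp at h3
        omega
      · exact key ε hε h
      · refine key (-ε) (by omega) ?_
        rwa [neg_smul]
    have hsum' : ∑ k, c' k = n - p := by
      simp only [c', Finset.sum_sub_distrib, hsum, Finset.sum_ite_eq', Finset.mem_univ, if_true]
    have hnn : 0 ≤ ∑ k, c' k := Finset.sum_nonneg fun k _ => hc' k
    obtain ⟨m, hm⟩ := Int.eq_ofNat_of_zero_le hnn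
    have hmn : m < n := by
      have : (m : ℤ) < n := by rw [← hm, hsum']; omega
      exact_mod_cast this
    have hres := ih m hmn c' hc' ⟨i, by rw [hc'i]; exact hi⟩ hm ε hε X' hX'mem hX'wt hX'0
    obtain ⟨a, ha⟩ := hres
    refine ⟨P.reflectionPerm j a, ?_⟩
    rw [P.root_reflectionPerm, ha, map_zsmul, ← hβ', P.reflection_same]
  · push Not at hex
    have hz : ∀ i, i ≠ j → c i = 0 := fun i hi => le_antisymm (hex i hi) (hc i)
    have hβj : β = c j • P.root j := by
      rw [hβ]
      refine Finset.sum_eq_single j (fun i _ hi => by rw [hz i hi, zero_smul]) (by simp)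
    rw [hβj, ← mul_smul] at hwt ⊢
    rcases wt_simple (mul_ne_zero hεne hj.ne') hX hwt hX0 with ⟨h, -⟩ | ⟨h, -⟩
    · rw [h, one_smul]
      exact ⟨j, rfl⟩
    · rw [h, neg_smul, one_smul]
      exact ⟨P.reflectionPerm j j, by rw [P.root_reflectionPerm, P.reflection_apply_self]⟩

/-- The nonzero weights of `L` are roots. -/
theorem wt_mem_range [Finite idx] [IsAddTorsionFree M] [Module.Free ℤ M] {β : M}
    {X : Matrix C.J C.J ℚ} (hX : X ∈ L C) (hwt : IsWt C.wt β X) (hX0 : X ≠ 0) :
    β = 0 ∨ β ∈ Set.range P.root := by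
  rcases wt_cases hX hwt hX0 with h | h | h
  · exact Or.inl h
  · right
    obtain ⟨c, hc, ⟨i, -, hi⟩, rfl⟩ := h
    obtain ⟨n, hn⟩ := Int.eq_ofNat_of_zero_le (Finset.sum_nonneg fun k _ => hc k : 0 ≤ ∑ i, c i)
    have := wt_mem_range_aux (C := C) n c hc ⟨i, hi⟩ hn 1 (Or.inl rfl) X hX (by rwa [one_smul]) hX0
    rwa [one_smul] at this
  · right
    obtain ⟨c, hc, ⟨i, -, hi⟩, h⟩ := h
    obtain ⟨n, hn⟩ := Int.eq_ofNat_of_zero_le (Finset.sum_nonneg fun k _ => hc k : 0 ≤ ∑ i, c i)
    have hβ : β = (-1 : ℤ) • ∑ i, c i • P.root i := by rw [← h]; simp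
    have := wt_mem_range_aux (C := C) n c hc ⟨i, hi⟩ hn (-1) (Or.inr rfl) X hX (by rwa [← hβ]) hX0
    rwa [← hβ] at this

lemma eq_zero_of_notMem [Finite idx] [IsAddTorsionFree M] [Module.Free ℤ M] {β : M}
    {X : Matrix C.J C.J ℚ} (hX : X ∈ L C) (hwt : IsWt C.wt β X) (h0 : β ≠ 0)
    (h1 : β ∉ Set.range P.root) : X = 0 := by
  by_contra h
  rcases wt_mem_range hX hwt h with h2 | h2
  · exact h0 h2
  · exact h1 h2

/-- Every positive root is conjugate to a simple one by an integral lift. -/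
theorem exists_lift [Finite idx] [P.IsReduced] [IsAddTorsionFree M] [Module.Free ℤ M] {a : idx}
    (ha : b.IsPos a) :
    ∃ (i : b.support) (w : M ≃ₗ[ℤ] M) (g : (Matrix C.J C.J ℤ)ˣ), IsLift C w g ∧
      w (P.root i) = P.root a ∧ ∀ m, P.coroot' a (w m) = P.coroot' i m := by
  refine ha.induction_on_reflect (p := fun a => ∃ (i : b.support) (w : M ≃ₗ[ℤ] M)
    (g : (Matrix C.J C.J ℤ)ˣ), IsLift C w g ∧
      w (P.root i) = P.root a ∧ ∀ m, P.coroot' a (w m) = P.coroot' i m) ?_ ?_
  · intro i hi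
    exact ⟨⟨i, hi⟩, LinearEquiv.refl ℤ M, 1, isLift_one, rfl, fun m => rfl⟩
  · rintro a j ⟨i, w, g, h1, h2, h3⟩ hj
    refine ⟨i, w.trans (P.reflection j), nI C ⟨j, hj⟩ * g, (isLift_nI ⟨j, hj⟩).mul h1, ?_, ?_⟩
    · rw [LinearEquiv.trans_apply, h2, P.root_reflectionPerm]
    · intro m
      rw [LinearEquiv.trans_apply, ← P.coroot'_reflection, P.reflection_same, h3]

end Groth.Agent.RedSub.H507.WtRoot
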